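import Mathlib.RingTheory.HopkinsLevitzki
import Mathlib.RingTheory.Noetherian.Basic
import Mathlib.RingTheory.Ideal.Quotient.Noetherian
import Mathlib.RingTheory.AdicCompletion.Basic
import Mathlib.RingTheory.Filtration
import Mathlib.RingTheory.LocalRing.Quotient
import Mathlib.RingTheory.AdicCompletion.Noetherian

/-!
# Chevalley's lemma
In a complete Noetherian local ring, a decreasing sequence of ideals with zero intersection
is eventually contained in any power of the maximal ideal.
-/

set_option autoImplicit false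

namespace Groth.Agent.Chevalley

open IsLocalRing

theorem isArtinianRing_quotient_pow (R : Type*) [CommRing R] [IsNoetherianRing R] [IsLocalRing R]
    (j : ℕ) : IsArtinianRing (R ⧸ maximalIdeal R ^ j) := by
  by_cases hj : maximalIdeal R ^ j = ⊤
  · have : Subsingleton (R ⧸ maximalIdeal R ^ j) := Ideal.Quotient.subsingleton_iff.mpr hj
    exact (inferInstance : IsArtinian (R ⧸ maximalIdeal R ^ j) (R ⧸ maximalIdeal R ^ j))
  have : Nontrivial (R ⧸ maximalIdeal R ^ j) := Ideal.Quotient.nontrivial_iff.mpr hj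
  have := IsLocalRing.of_surjective' (Ideal.Quotient.mk (maximalIdeal R ^ j)) Ideal.Quotient.mk_surjective
  rw [isArtinianRing_iff_isNilpotent_maximalIdeal]
  refine ⟨j, ?_⟩
  have h : maximalIdeal (R ⧸ maximalIdeal R ^ j) =
      (maximalIdeal R).map (Ideal.Quotient.mk (maximalIdeal R ^ j)) :=
    (IsLocalRing.map_maximalIdeal_of_surjective _ Ideal.Quotient.mk_surjective).symm
  rw [h, ← Ideal.map_pow, Ideal.map_quotient_self, Ideal.zero_eq_bot]

theorem exists_le_pow {R : Type*} [CommRing R] [IsNoetherianRing R] [IsLocalRing R]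
    [IsAdicComplete (maximalIdeal R) R] (K : ℕ → Ideal R) (hK : Antitone K) (h0 : ⨅ n, K n = ⊥)
    (j : ℕ) : ∃ n, K n ≤ maximalIdeal R ^ j := by
  set m := maximalIdeal R with hm
  have stab : ∀ i, ∃ N, ∀ n, N ≤ n → K N ≤ K n ⊔ m ^ i := by
    intro i
    have := isArtinianRing_quotient_pow R i
    obtain ⟨N, hN⟩ := IsArtinian.monotone_stabilizes (R := R ⧸ m ^ i) (M := R ⧸ m ^ i)
      ⟨fun n => OrderDual.toDual ((K n).map (Ideal.Quotient.mk (m ^ i))),
        fun a b hab => Ideal.map_mono (hK hab)⟩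
    refine ⟨N, fun n hn => ?_⟩
    have h := congrArg (fun J : Ideal (R ⧸ m ^ i) => J.comap (Ideal.Quotient.mk (m ^ i))) (hN n hn)
    change _ = _ at h
    have h' : K N ≤ ((K n).map (Ideal.Quotient.mk (m ^ i))).comap (Ideal.Quotient.mk (m ^ i)) :=
      Ideal.le_comap_map.trans h.le
    rwa [Ideal.comap_map_quotientMk, sup_comm] at h'
  choose N hN using stab
  let M : ℕ → ℕ := fun i => Nat.rec (N 0) (fun k r => max r (N (k + 1))) i
  have hMN : ∀ i, N i ≤ M i := fun i => by cases i with | zero => exact le_rfl | succ k => exact le_max_right _ _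
  have hM : ∀ i n, K (M i) ≤ K n ⊔ m ^ i := by
    intro i n
    rcases le_total n (N i) with h | h
    · exact ((hK (h.trans (hMN i))).trans le_sup_left)
    · exact (hK (hMN i)).trans (hN i n h)
  by_contra! hcon
  obtain ⟨x₀, hx₀, hx₀'⟩ := SetLike.not_le_iff_exists.mp (hcon (M j))
  have step : ∀ i (x : K (M i)), ∃ y : K (M (i + 1)), (x : R) - y ∈ m ^ i := by
    intro i x
    obtain ⟨y, hy, e, he, hye⟩ := Submodule.mem_sup.mp (hM i (M (i + 1)) x.2)
    exact ⟨⟨y, hy⟩, by simp [← hye, he]⟩
  choose next hnext using step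
  let x : (d : ℕ) → (K (M (j + d)) : Ideal R) := fun d =>
    Nat.rec (motive := fun d => ↥(K (M (j + d)))) ⟨x₀, hx₀⟩ (fun d y => next (j + d) y) d
  have hx : ∀ d, ((x d).1 : R) - (x (d + 1)).1 ∈ m ^ (j + d) := fun d => hnext (j + d) (x d)
  have hcauchy : ∀ {a b}, a ≤ b → (x a : R) - x b ∈ m ^ (j + a) := by
    intro a b hab
    induction b, hab using Nat.le_induction with
    | base => simp
    | succ b hb ih =>
      have := add_mem ih (Ideal.pow_le_pow_right (Nat.add_le_add_left hb j) (hx b))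
      simpa using this
  obtain ⟨L, hL⟩ := IsPrecomplete.prec (inferInstance : IsPrecomplete m R)
    (f := fun d => (x d : R)) (fun {a b} hab => by
      rw [SModEq.sub_mem, smul_eq_mul, Ideal.mul_top]
      exact Ideal.pow_le_pow_right (Nat.le_add_left a j) (hcauchy hab))
  have hL' : ∀ d, (x d : R) - L ∈ m ^ d := fun d => by
    have := SModEq.sub_mem.mp (hL d)
    rwa [smul_eq_mul, Ideal.mul_top] at this
  have hmem : ∀ n, L ∈ K n := by
    intro n
    have h1 : L ∈ ⨅ d, (K n ⊔ m ^ d) := by
      rw [Ideal.mem_iInf]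
      intro d
      have h2 : (x d : R) ∈ K n ⊔ m ^ d := by
        have := hM (j + d) n (x d).2
        exact (sup_le (le_sup_left (b := m ^ d)) ((Ideal.pow_le_pow_right (Nat.le_add_left d j)).trans le_sup_right)) this
      have := sub_mem h2 (Submodule.mem_sup_right (hL' d) : (x d : R) - L ∈ K n ⊔ m ^ d)
      simpa using this
    by_cases htop : K n = ⊤
    · simp [htop]
    have : Nontrivial (R ⧸ K n) := Ideal.Quotient.nontrivial_iff.mpr htop
    have := IsLocalRing.of_surjective' (Ideal.Quotient.mk (K n)) Ideal.Quotient.mk_surjective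
    rw [← Ideal.Quotient.eq_zero_iff_mem]
    have h3 : Ideal.Quotient.mk (K n) L ∈ ⨅ d, (m.map (Ideal.Quotient.mk (K n))) ^ d := by
      rw [Ideal.mem_iInf]
      intro d
      rw [← Ideal.map_pow]
      obtain ⟨a, ha, b, hb, hab⟩ := Submodule.mem_sup.mp (Ideal.mem_iInf.mp h1 d)
      refine (Ideal.mem_map_iff_of_surjective _ Ideal.Quotient.mk_surjective).mpr ⟨b, hb, ?_⟩
      rw [← hab, map_add, Ideal.Quotient.eq_zero_iff_mem.mpr ha, zero_add]
    rwa [Ideal.iInf_pow_eq_bot_of_isLocalRing, Ideal.mem_bot] at h3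
    intro h
    have := congrArg (fun J => J.comap (Ideal.Quotient.mk (K n))) h
    simp only [Ideal.comap_map_quotientMk, Ideal.comap_top] at this
    exact (maximalIdeal.isMaximal R).ne_top (top_le_iff.mp (this.ge.trans (sup_le (le_maximalIdeal htop) le_rfl)))
  have hL0 : L = 0 := by
    have : L ∈ ⨅ n, K n := Ideal.mem_iInf.mpr hmem
    rwa [h0, Ideal.mem_bot] at this
  have hfin : x₀ ∈ m ^ j := by
    have h1 := hL' j
    rw [hL0, sub_zero] at h1
    have h2 := add_mem (Ideal.pow_le_pow_right (Nat.le_add_right j 0) (hcauchy (Nat.zero_le j))) h1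
    simpa [x] using h2
  exact hx₀' hfin

end Groth.Agent.Chevalley
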