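import Groth.Agent.Chevalley.ConstDim
import Groth.Agent.RedSub.Basic

/-! # Equidimensional morphisms are equidimensional on a component -/

set_option autoImplicit false
set_option linter.style.haveILetI false

universe u

open CategoryTheory AlgebraicGeometry Limits Topology TopologicalSpace

namespace Groth.Agent.Chevalley

variable {X Y : Scheme.{u}}

/-- A part of an equidimensional family, irreducible and containing full fibre pieces over the image of its
generic point, has fibres of the same dimension. -/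
theorem fibre_components_dim_eq (g : X ⟶ Y) [LocallyOfFiniteType g] {η : X} (hgen : ∀ z, η ⤳ z) {e : ℕ}
    (hle : ∀ (n : ℕ) (c : Fin (n + 1) → X), IsPtChain c → (∀ i, g (c i) = g (c 0)) → n ≤ e)
    (hge : ∀ W : Set X, IsOpen W → η ∈ W → ∃ c : Fin (e + 1) → X, IsPtChain c ∧ ∀ i, c i ∈ W ∧ g (c i) = g η)
    (y : Y) (T : Set ↥(g.fiber y)) (hT : T ∈ irreducibleComponents ↥(g.fiber y)) :
    topologicalKrullDim ↥T = e := by
  let F := g.fiber y
  let k := Y.residueField y
  letI : F.Over (Spec (CommRingCat.of k)) := ⟨g.fiberToSpecResidueField y⟩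
  haveI : LocallyOfFiniteType (F ↘ Spec (CommRingCat.of k)) :=
    inferInstanceAs (LocallyOfFiniteType (pullback.snd g (Y.fromSpecResidueField y)))
  obtain ⟨t, ht⟩ := QuasiSober.sober hT.1 (isClosed_of_mem_irreducibleComponents T hT)
  have hemb : IsEmbedding (g.fiberι y) := (g.fiberι y).isEmbedding
  have hy : ∀ z : F, g (g.fiberι y z) = y := fun z => by
    have : g.fiberι y z ∈ Set.range (g.fiberι y) := ⟨_, rfl⟩
    rw [g.range_fiberι] at this
    exact this
  have hmax : ∀ z : F, z ⤳ t → z = t := QSect.max_of_component hT ht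
  obtain ⟨η', hle', -, hloc⟩ := VarDim.exists_localDim_eq k t
  obtain rfl : η' = t := hmax η' hle'
  have hdimT : topologicalKrullDim ↥T = (VarDim.dimPt k F η' : WithBot ℕ∞) := by
    rw [← ht.def, QSect.topDim_closure_singleton, VarDim.height_eq_dimPt k]
    rfl
  rw [hdimT]
  refine le_antisymm ?_ ?_
  · obtain ⟨z, hz, -, hz0⟩ := VarDim.exists_le_dimPt_eq_zero k η' ⊤ trivial
    obtain ⟨-, l, -, -, hlen⟩ := VarDim.exists_ltSeries_of_le k hz
    rw [hz0, zero_add] at hlen
    have h1 := hle l.length (fun i => g.fiberι y (l i.rev)) (fun i j hij => by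
      have h1 := l.strictMono (Fin.rev_lt_rev.mpr hij)
      exact ⟨h1.le.map (g.fiberι y).continuous, fun he => h1.ne (hemb.injective he).symm⟩)
      fun i => (hy _).trans (hy _).symm
    have h2 : VarDim.dimPt k F η' ≤ e := by
      have : l.length = VarDim.dimPt k F η' := by rw [hlen]
      omega
    exact_mod_cast h2
  · -- semicontinuity at the generic point
    have h1 : FlatMor.fibreDimAt g (g.fiberι y η') ≤ (VarDim.dimPt k F η' : ℕ) := by
      rw [FlatMisc.FibreDimScheme.fibreDimAt_eq]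
      have key : ∀ p : g ⁻¹' {y}, FlatMor.localDim ↥(g ⁻¹' {y}) p = FlatMor.localDim ↥(g ⁻¹' {g p.1}) ⟨p.1, rfl⟩ := by
        rintro ⟨p, rfl⟩
        rfl
      have hE := FlatMisc.FibreDimScheme.localDim_homeo (g.fiberHomeo y) η'
      rw [key, hloc] at hE
      exact hE
    have h2 : η ∈ {x : X | FlatMor.fibreDimAt g x ≤ (VarDim.dimPt k F η' : ℕ)} :=
      (hgen _).mem_open (FlatMisc.FibreDimScheme.isOpen_fibreDimAt_le g _) h1
    rw [Set.mem_ofPred_eq, FlatMisc.FibreDimScheme.fibreDimAt_eq] at h2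
    refine le_trans ?_ h2
    refine le_iInf fun U => ?_
    obtain ⟨O, hO, hOU⟩ := isOpen_induced_iff.mp U.1.2
    have hηO : η ∈ O := by
      have h3 : (⟨η, rfl⟩ : g ⁻¹' {g η}) ∈ Subtype.val ⁻¹' O := hOU ▸ U.2
      exact h3
    obtain ⟨c, hc, hcc⟩ := hge O hO hηO
    have hmem : ∀ i : Fin (e + 1), (⟨c i.rev, (hcc i.rev).2⟩ : g ⁻¹' {g η}) ∈ U.1 := fun i => by
      have h3 : (⟨c i.rev, (hcc i.rev).2⟩ : g ⁻¹' {g η}) ∈ Subtype.val ⁻¹' O := (hcc i.rev).1
      rw [hOU] at h3
      exact h3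
    haveI : T0Space (U.1 : Set ↥(g ⁻¹' {g η})) := Subtype.t0Space
    refine FlatMisc.FibreDimScheme.length_le_topDim (fun i => ⟨_, hmem i⟩) fun i j hij => ?_
    obtain ⟨h3, h4⟩ := hc _ _ (Fin.rev_lt_rev.mpr hij)
    refine ⟨?_, fun he' => h4 (congrArg (fun w : U.1 => (w.1.1 : X)) he').symm⟩
    rw [subtype_specializes_iff, subtype_specializes_iff]
    exact h3

end Groth.Agent.Chevalley

namespace Groth.Agent.Chevalley

variable {X Y : Scheme.{u}}

/-- Equidimensional at a point implies equidimensional on a component through the point. -/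
theorem exists_component_isEquidimAt (f : X ⟶ Y) [LocallyOfFiniteType f] {x : X} (h : EGA43.IsEquidimAt f x) :
    ∃ W : Closeds X, (W : Set X) ∈ irreducibleComponents (X : Type u) ∧
      ∃ w : ↥((Scheme.IdealSheafData.vanishingIdeal W).subscheme),
        (Scheme.IdealSheafData.vanishingIdeal W).subschemeι.base w = x ∧
        EGA43.IsEquidimAt ((Scheme.IdealSheafData.vanishingIdeal W).subschemeι ≫ f) w := by
  obtain ⟨e, U, hxU, hcomp, hdim⟩ := h
  haveI : QuasiSober (↥U : Type u) := U.2.isOpenEmbedding_subtypeVal.quasiSober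
  let x' : (↥U : Type u) := ⟨x, hxU⟩
  have hC := irreducibleComponent_mem_irreducibleComponents x'
  obtain ⟨η, hη⟩ := QuasiSober.sober hC.1 (isClosed_of_mem_irreducibleComponents _ hC)
  obtain ⟨WY, hWY, hxWY, hWeq⟩ := hcomp _ hC
  have hηx : η.1 ⤳ x := (hη.specializes mem_irreducibleComponent).map continuous_subtype_val
  have hηmax : ∀ z : X, z ⤳ η.1 → z = η.1 := fun z hz => by
    have hzU : z ∈ U := hz.mem_open U.2 η.2
    exact congrArg Subtype.val
      (QSect.max_of_component hC hη ⟨z, hzU⟩ ((subtype_specializes_iff (⟨z, hzU⟩ : U) η).mpr hz))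
  let W : Closeds X := ⟨closure {η.1}, isClosed_closure⟩
  refine ⟨W, ⟨isIrreducible_singleton.closure, fun Z hZ hle => ?_⟩, ?_⟩
  · obtain ⟨g, hg⟩ := QuasiSober.sober hZ.closure isClosed_closure
    have h1 : g ⤳ η.1 := hg.specializes (subset_closure (hle (subset_closure rfl)))
    rw [hηmax g h1] at hg
    exact subset_closure.trans hg.symm.subset
  let j := (Scheme.IdealSheafData.vanishingIdeal W).subschemeι
  have hr : Set.range j = closure {η.1} := RedSub.range_vanishingIdeal_subschemeι W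
  obtain ⟨w, hw⟩ : x ∈ Set.range j := hr ▸ specializes_iff_mem_closure.mp hηx
  obtain ⟨η₀, hη₀⟩ : η.1 ∈ Set.range j := hr ▸ subset_closure rfl
  refine ⟨w, hw, e, j ⁻¹ᵁ U, show j w ∈ U from hw ▸ hxU, fun Z hZ => ⟨WY, hWY, ?_, ?_⟩, ?_⟩
  · show f (j w) ∈ WY
    rw [hw]
    exact hxWY
  all_goals
    let η₁ : (↥(j ⁻¹ᵁ U) : Type u) := ⟨η₀, show j η₀ ∈ U from hη₀ ▸ η.2⟩
    have hgen : ∀ z : (↥(j ⁻¹ᵁ U) : Type u), η₁ ⤳ z := fun z => by
      refine (subtype_specializes_iff η₁ z).mpr (j.isEmbedding.isInducing.specializes_iff.mp ?_)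
      rw [show j η₁.1 = η.1 from hη₀, specializes_iff_mem_closure, ← hr]
      exact ⟨z.1, rfl⟩
  · have hgen' : IsGenericPoint η₁ (Set.univ : Set (↥(j ⁻¹ᵁ U) : Type u)) :=
      isGenericPoint_iff_specializes.mpr fun z => ⟨fun _ => trivial, fun _ => hgen z⟩
    haveI : IrreducibleSpace (↥(j ⁻¹ᵁ U) : Type u) := (irreducibleSpace_def _).mpr hgen'.isIrreducible
    rw [irreducibleComponents_eq_singleton, Set.mem_singleton_iff] at hZ
    subst hZ
    have h1 := hgen'.image ((j ⁻¹ᵁ U).ι ≫ j ≫ f).continuous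
    have h2 := hη.image (U.ι ≫ f).continuous
    have h3 : ((j ⁻¹ᵁ U).ι ≫ j ≫ f) η₁ = (U.ι ≫ f) η := by
      show f (j η₀) = f η.1
      rw [hη₀]
    rw [h3] at h1
    exact (h1.def.symm.trans h2.def).trans hWeq
  · intro x'' T hT
    refine fibre_components_dim_eq ((j ⁻¹ᵁ U).ι ≫ j ≫ f) hgen (e := e) (fun n c hc hcc => ?_) (fun V hV hηV => ?_) _ T hT
    · have hc' : IsPtChain (j ∘ fun i => (c i).1) :=
        hc.map (j.isEmbedding.comp (j ⁻¹ᵁ U).ι.isEmbedding)
      let l : LTSeries ↥(U.toScheme) := LTSeries.mk n (fun i => ⟨j (c i.rev).1, (c i.rev).2⟩) fun a b hab => by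
        obtain ⟨h1, h2⟩ := hc' _ _ (Fin.rev_lt_rev.mpr hab)
        exact lt_iff_le_not_ge.mpr
          ⟨(subtype_specializes_iff (⟨j (c b.rev).1, (c b.rev).2⟩ : U) ⟨j (c a.rev).1, (c a.rev).2⟩).mpr h1,
          fun h' => h2 ((((subtype_specializes_iff (⟨j (c a.rev).1, (c a.rev).2⟩ : U) ⟨j (c b.rev).1, (c b.rev).2⟩).mp
            h').antisymm h1).eq.symm)⟩
      exact QSect.length_le_of_fibre (U.ι ≫ f) hdim (f (j (c 0).1)) l fun i => hcc _
    · obtain ⟨O, hO, rfl⟩ := ((j ⁻¹ᵁ U).ι ≫ j).isEmbedding.isInducing.isOpen_iff.mp hV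
      obtain ⟨l, hlast, hl, hlen⟩ := QSect.exists_chain_of_fibre (U.ι ≫ f) hdim η
        (fun z hz => Subtype.ext (hηmax _ (hz.map continuous_subtype_val)))
        ⟨U.ι ⁻¹' O, hO.preimage U.ι.continuous⟩ (show η.1 ∈ O by
          have : j η₀ ∈ O := hηV
          rwa [hη₀] at this)
      subst hlen
      have hmem : ∀ i, ∃ p : (↥(j ⁻¹ᵁ U) : Type u), j p.1 = (l i).1 := fun i => by
        have h1 : η ⤳ l i := hlast ▸ l.monotone (Fin.le_last i)
        obtain ⟨p, hp⟩ : (l i).1 ∈ Set.range j := hr ▸ specializes_iff_mem_closure.mp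
          ((h1.map continuous_subtype_val : η.1 ⤳ (l i).1))
        exact ⟨⟨p, show j p ∈ U from hp ▸ (l i).2⟩, hp⟩
      choose p hp using hmem
      refine ⟨fun i => p i.rev, fun a b hab => ?_, fun i => ⟨?_, ?_⟩⟩
      · have h1 := l.strictMono (Fin.rev_lt_rev.mpr hab)
        refine ⟨(subtype_specializes_iff (p a.rev) (p b.rev)).mpr (j.isEmbedding.isInducing.specializes_iff.mp ?_),
          fun he => h1.ne (Subtype.ext ?_)⟩
        · rw [hp, hp]
          exact (subtype_specializes_iff (l a.rev) (l b.rev)).mp h1.le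
        · rw [← hp, ← hp, show p a.rev = p b.rev from he]
      · show j (p i.rev).1 ∈ O
        rw [hp]
        exact (hl _).2
      · show f (j (p i.rev).1) = f (j η₀)
        rw [hp, hη₀]
        exact (hl _).1

end Groth.Agent.Chevalley
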