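import Groth.Agent.Chevalley.Local
import Groth.Prelude.Def_Flat

/-! # The data for constant fibre dimension over irreducible schemes -/

set_option autoImplicit false
set_option linter.style.haveILetI false

universe u

open CategoryTheory AlgebraicGeometry Limits Topology TopologicalSpace

namespace Groth.Agent.Chevalley

variable {X Y : Scheme.{u}} (f : X ⟶ Y) [LocallyOfFiniteType f]

/-- The generic fibre of a dominant morphism of irreducible schemes has chains of its dimension near the generic point. -/
theorem exists_chains_genericFibre [IrreducibleSpace X] :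
    ∃ e : ℕ, topologicalKrullDim ↥(f.fiber (f (genericPoint X))) = e ∧
      ∀ W : Set X, IsOpen W → genericPoint X ∈ W → ∃ c : Fin (e + 1) → X, IsPtChain c ∧
        ∀ i, genericPoint X ⤳ c i ∧ c i ∈ W ∧ f (c i) = f (genericPoint X) := by
  let η := genericPoint X
  let y := f η
  let F := f.fiber y
  let k := Y.residueField y
  letI : F.Over (Spec (CommRingCat.of k)) := ⟨f.fiberToSpecResidueField y⟩
  haveI : LocallyOfFiniteType (F ↘ Spec (CommRingCat.of k)) :=
    inferInstanceAs (LocallyOfFiniteType (pullback.snd f (Y.fromSpecResidueField y)))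
  let η' : F := f.asFiber η
  have hι : f.fiberι y η' = η := f.fiberι_asFiber η
  have hemb : IsEmbedding (f.fiberι y) := (f.fiberι y).isEmbedding
  have hgen : ∀ z : F, η' ⤳ z := fun z => hemb.isInducing.specializes_iff.mp (hι ▸ genericPoint_specializes _)
  haveI : IrreducibleSpace F := by
    refine (irreducibleSpace_def _).mpr ?_
    have h : closure ({η'} : Set F) = Set.univ :=
      Set.eq_univ_of_forall fun z => specializes_iff_mem_closure.mp (hgen z)
    rw [Set.top_eq_univ, ← h]
    exact isIrreducible_singleton.closure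
  refine ⟨VarDim.dimPt k F η', ?_, fun W hW hηW => ?_⟩
  · have h1 : closure ({η'} : Set F) = Set.univ :=
      Set.eq_univ_of_forall fun z => specializes_iff_mem_closure.mp (hgen z)
    have h2 := QSect.topDim_closure_singleton η'
    rw [VarDim.height_eq_dimPt k, h1] at h2
    rw [← IsHomeomorph.topologicalKrullDim_eq _ (Homeomorph.Set.univ F).isHomeomorph]
    exact_mod_cast h2
  obtain ⟨z, hz, hzW, hz0⟩ := VarDim.exists_le_dimPt_eq_zero k η' ⟨f.fiberι y ⁻¹' W, hW.preimage (f.fiberι y).continuous⟩
    (show f.fiberι y η' ∈ W by rw [hι]; exact hηW)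
  obtain ⟨-, l, hlh, -, hlen⟩ := VarDim.exists_ltSeries_of_le k hz
  rw [hz0, zero_add] at hlen
  have hlen' : l.length = VarDim.dimPt k F η' := by rw [hlen]
  rw [← hlen']
  refine ⟨fun i => f.fiberι y (l i.rev), fun i j hij => ?_, fun i => ⟨?_, ?_, ?_⟩⟩
  · have h1 := l.strictMono (Fin.rev_lt_rev.mpr hij)
    exact ⟨h1.le.map (f.fiberι y).continuous, fun he => h1.ne (hemb.injective he).symm⟩
  · have h1 := (hgen (l i.rev)).map (f.fiberι y).continuous
    rw [hι] at h1
    exact h1
  · have h1 : l i.rev ⤳ z := hlh ▸ l.monotone (Fin.zero_le i.rev)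
    exact (h1.map (f.fiberι y).continuous).mem_open hW hzW
  · have : f.fiberι y (l i.rev) ∈ Set.range (f.fiberι y) := ⟨_, rfl⟩
    rw [f.range_fiberι] at this
    exact this

/-- Constant fibre dimension gives the data. -/
theorem data_of_fibreDimAt_const [IrreducibleSpace X] [IrreducibleSpace Y] [IsDominant f]
    (h : ∀ x : X, FlatMor.fibreDimAt f x = topologicalKrullDim ↥(f.fiber (f (genericPoint X)))) (x : X) :
    Data f x := by
  obtain ⟨e, he, hge⟩ := exists_chains_genericFibre f
  refine ⟨genericPoint X, Set.univ, e, isOpen_univ, trivial, genericPoint_specializes x, fun z hz => ?_,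
    fun n c hc hcc => ?_, hge⟩
  · have hg : IsGenericPoint (f (genericPoint X)) (Set.univ : Set Y) := by
      have := (genericPoint_spec X).image f.continuous
      rwa [Set.image_univ, f.denseRange.closure_range] at this
    exact (hz.antisymm (hg.specializes trivial)).eq
  · have h1 := h (c (Fin.last n))
    rw [he, FlatMisc.FibreDimScheme.fibreDimAt_eq] at h1
    let pt : Fin (n + 1) → ↥(f ⁻¹' {f (c (Fin.last n))}) := fun i =>
      ⟨c i.rev, (hcc i.rev).2.2.trans (hcc (Fin.last n)).2.2.symm⟩
    have hle : (n : WithBot ℕ∞) ≤ FlatMor.localDim ↥(f ⁻¹' {f (c (Fin.last n))}) ⟨c (Fin.last n), rfl⟩ := by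
      refine le_iInf fun U => ?_
      have hmem : ∀ i, pt i ∈ U.1 := fun i => by
        have hs : pt i ⤳ ⟨c (Fin.last n), rfl⟩ := by
          rw [subtype_specializes_iff]
          show c i.rev ⤳ c (Fin.last n)
          rcases (Fin.le_last i.rev).lt_or_eq with hlt | heq
          · exact (hc _ _ hlt).1
          · rw [heq]
        exact hs.mem_open U.1.2 U.2
      haveI : T0Space (U.1 : Set ↥(f ⁻¹' {f (c (Fin.last n))})) := Subtype.t0Space
      refine FlatMisc.FibreDimScheme.length_le_topDim (fun i => ⟨pt i, hmem i⟩) fun i j hij => ?_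
      obtain ⟨h2, h3⟩ := hc _ _ (Fin.rev_lt_rev.mpr hij)
      refine ⟨?_, fun he' => h3 (congrArg (fun w : U.1 => (w.1.1 : X)) he').symm⟩
      rw [subtype_specializes_iff, subtype_specializes_iff]
      exact h2
    rw [h1] at hle
    exact_mod_cast hle

end Groth.Agent.Chevalley
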