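import Groth.Agent.Chevalley.Poly
import Groth.Agent.QSect.Alg
import Groth.Agent.ConstrLib.Basic
import Mathlib.RingTheory.KrullDimension.Polynomial

/-! # Parameters from bounds on chains in the fibres -/

set_option autoImplicit false

universe u

open PrimeSpectrum MvPolynomial Topology

namespace Groth.Agent.Chevalley

/-- A chain of primes of `A[X₁,…,Xₑ]` over the zero ideal of a domain `A` has length at most `e`. -/
theorem length_le_of_comap_C_eq_bot {A : Type u} [CommRing A] [IsDomain A] {e : ℕ}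
    (l : LTSeries (PrimeSpectrum (MvPolynomial (Fin e) A))) (hl : ∀ i, (l i).asIdeal.comap C = ⊥) :
    l.length ≤ e := by
  let K := FractionRing A
  let M : Submonoid (MvPolynomial (Fin e) A) := (nonZeroDivisors A).map C
  letI : Algebra (MvPolynomial (Fin e) A) (MvPolynomial (Fin e) K) := MvPolynomial.algebraMvPolynomial
  haveI : IsLocalization M (MvPolynomial (Fin e) K) := MvPolynomial.isLocalization _ _
  have hdisj : ∀ i, Disjoint (M : Set (MvPolynomial (Fin e) A)) (l i).asIdeal := fun i => by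
    rw [Set.disjoint_left]
    rintro _ ⟨a, ha, rfl⟩ hmem
    exact nonZeroDivisors.ne_zero ha (Ideal.mem_bot.mp (hl i ▸ Ideal.mem_comap.mpr hmem))
  let f : Fin (l.length + 1) → PrimeSpectrum (MvPolynomial (Fin e) K) := fun i =>
    ⟨(l i).asIdeal.map (algebraMap (MvPolynomial (Fin e) A) (MvPolynomial (Fin e) K)), IsLocalization.isPrime_of_isPrime_disjoint M _ _ (l i).isPrime (hdisj i)⟩
  have hf : StrictMono f := by
    intro i j hij
    refine lt_of_le_of_ne (Ideal.map_mono (l.monotone hij.le)) fun h => ?_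
    refine (l.strictMono hij).ne (PrimeSpectrum.ext ?_)
    rw [← IsLocalization.comap_map_of_isPrime_disjoint M (MvPolynomial (Fin e) K) (l i).isPrime (hdisj i),
      ← IsLocalization.comap_map_of_isPrime_disjoint M (MvPolynomial (Fin e) K) (l j).isPrime (hdisj j)]
    exact congrArg (fun z => Ideal.comap (algebraMap (MvPolynomial (Fin e) A) (MvPolynomial (Fin e) K)) z.asIdeal) h
  have hd : ringKrullDim (MvPolynomial (Fin e) K) = e := by
    rw [MvPolynomial.ringKrullDim_of_isNoetherianRing]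
    simp
  have h : ((l.length : ℕ∞) : WithBot ℕ∞) ≤ ringKrullDim (MvPolynomial (Fin e) K) :=
    Order.le_krullDim_iff.mpr ⟨LTSeries.mk _ f hf, rfl⟩
  rw [hd] at h
  exact ENat.natCast_le_natCast.mp (WithBot.coe_le_coe.mp h)

/-- Incomparability after inverting an element. -/
theorem comap_lt_comap_of_powers_integral {R D : Type u} [CommRing R] [CommRing D] (ψ : R →+* D) {r : D}
    (h : ∀ x, ∃ k : ℕ, ψ.IsIntegralElem (r ^ k * x)) {I J : Ideal D} [I.IsPrime] [J.IsPrime]
    (hIJ : I < J) (hr : r ∉ J) : I.comap ψ < J.comap ψ := by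
  obtain ⟨x, hxJ, hxI⟩ := SetLike.exists_of_lt hIJ
  obtain ⟨k, p, hp, hp0⟩ := h x
  letI := ψ.toAlgebra
  exact Ideal.comap_lt_comap_of_integral_mem_sdiff hIJ.le
    ⟨J.mul_mem_left _ hxJ, fun hh => ((‹I.IsPrime›).mem_or_mem hh).elim
      (fun h' => hr ((‹J.IsPrime›).mem_of_pow_mem k (hIJ.le h'))) hxI⟩ ⟨p, hp, hp0⟩

/-- Parameters at a prime of a domain of finite type from bounds on the chains in the fibres. -/
theorem exists_params_domain {A D : Type u} [CommRing A] [IsDomain A] [CommRing D] [IsDomain D] [Algebra A D]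
    [Algebra.FiniteType A D] (q : PrimeSpectrum D) {g : D} (hg : g ∉ q.asIdeal) {e : ℕ}
    (hle : ∀ l : LTSeries (PrimeSpectrum D), (∀ i, g ∉ (l i).asIdeal) →
      (∀ i, PrimeSpectrum.comap (algebraMap A D) (l i) = PrimeSpectrum.comap (algebraMap A D) l.last) → l.length ≤ e)
    (hge : ∀ h : D, h ≠ 0 → ∃ l : LTSeries (PrimeSpectrum D),
      (∀ i, h ∉ (l i).asIdeal ∧ (l i).asIdeal.comap (algebraMap A D) = ⊥) ∧ l.length = e) :
    ∃ a : Fin e → D, Function.Injective (aeval (R := A) a) ∧ ∃ r : D, r ∉ q.asIdeal ∧ ∀ x : D, ∃ k : ℕ,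
      (aeval (R := A) a).toRingHom.IsIntegralElem (r ^ k * x) := by
  classical
  let p := PrimeSpectrum.comap (algebraMap A D) q
  haveI := p.isPrime
  let E := PrimeSpectrum.preimageOrderIsoFiber A D p
  haveI : IsNoetherianRing (p.asIdeal.Fiber D) := Algebra.FiniteType.isNoetherianRing p.asIdeal.ResidueField _
  obtain ⟨Q0, ⟨hQ0q, hQ0g⟩, hQ0max⟩ := (InvImage.wf PrimeSpectrum.asIdeal
      (wellFounded_gt (α := Ideal (p.asIdeal.Fiber D)))).has_min
    {Q | q.asIdeal ≤ (E.symm Q).1.asIdeal ∧ g ∉ (E.symm Q).1.asIdeal}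
    ⟨E ⟨q, rfl⟩, by rw [Set.mem_setOf_eq, OrderIso.symm_apply_apply]; exact ⟨le_rfl, hg⟩⟩
  let q0 : PrimeSpectrum D := (E.symm Q0).1
  have hq0p : PrimeSpectrum.comap (algebraMap A D) q0 = p := (E.symm Q0).2
  have hq0max : ∀ Q : PrimeSpectrum D, PrimeSpectrum.comap (algebraMap A D) Q = p → g ∉ Q.asIdeal →
      q0.asIdeal ≤ Q.asIdeal → Q = q0 := by
    intro Q hQp hQg hle'
    by_contra hne
    refine hQ0max (E ⟨Q, hQp⟩) ⟨?_, ?_⟩ ?_
    · rw [OrderIso.symm_apply_apply]; exact hQ0q.trans hle'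
    · rw [OrderIso.symm_apply_apply]; exact hQg
    · show Q0.asIdeal < (E ⟨Q, hQp⟩).asIdeal
      have h1 : E.symm Q0 < ⟨Q, hQp⟩ := lt_of_le_of_ne hle' fun h => hne (congrArg Subtype.val h).symm
      exact (E.apply_symm_apply Q0).symm.trans_lt (E.lt_iff_lt.mpr h1)
  obtain ⟨a, ha, haQ⟩ := QSect.exists_params (A := A) q0.asIdeal (e := e) (fun l hl hlast => by
    refine hle l (fun i hi => hQ0g ?_) fun i => PrimeSpectrum.ext ?_
    · have : (l i).asIdeal ≤ l.last.asIdeal := l.monotone (Fin.le_last i)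
      exact hlast ▸ this hi
    · exact (hl i).trans (hl (Fin.last _)).symm)
  let ψ := (aeval (R := A) a).toRingHom
  letI : Algebra (MvPolynomial (Fin e) A) D := ψ.toAlgebra
  haveI : IsScalarTower A (MvPolynomial (Fin e) A) D := IsScalarTower.of_algebraMap_eq fun z =>
    ((aeval (R := A) a).commutes z).symm
  haveI : Algebra.FiniteType (MvPolynomial (Fin e) A) D :=
    Algebra.FiniteType.of_restrictScalars_finiteType A _ _
  have hXa : ∀ j, algebraMap (MvPolynomial (Fin e) A) D (X j) = a j := fun j => aeval_X a j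
  haveI : Algebra.QuasiFiniteAt (MvPolynomial (Fin e) A) q0.asIdeal := by
    refine Algebra.QuasiFiniteAt.of_isOpen_singleton_fiber q0 ?_
    let P := PrimeSpectrum.comap (algebraMap (MvPolynomial (Fin e) A) D) q0
    haveI := P.isPrime
    haveI : IsNoetherianRing (P.asIdeal.Fiber D) :=
      Algebra.FiniteType.isNoetherianRing P.asIdeal.ResidueField _
    let H := PrimeSpectrum.preimageHomeomorphFiber (MvPolynomial (Fin e) A) D P
    haveI : TopologicalSpace.NoetherianSpace ↥(PrimeSpectrum.comap (algebraMap (MvPolynomial (Fin e) A) D) ⁻¹' {P}) :=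
      (TopologicalSpace.noetherianSpace_iff_of_homeomorph H).mpr inferInstance
    haveI : QuasiSober ↥(PrimeSpectrum.comap (algebraMap (MvPolynomial (Fin e) A) D) ⁻¹' {P}) :=
      H.isClosedEmbedding.quasiSober
    have hfib : ∀ z : ↥(PrimeSpectrum.comap (algebraMap (MvPolynomial (Fin e) A) D) ⁻¹' {P}),
        PrimeSpectrum.comap (algebraMap A D) z.1 = p := fun z => by
      rw [← hq0p]
      refine PrimeSpectrum.ext ?_
      show z.1.asIdeal.comap _ = q0.asIdeal.comap _
      rw [IsScalarTower.algebraMap_eq A (MvPolynomial (Fin e) A) D, ← Ideal.comap_comap, ← Ideal.comap_comap]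
      exact congrArg (fun w => Ideal.comap (algebraMap A (MvPolynomial (Fin e) A)) w)
        (congrArg PrimeSpectrum.asIdeal z.2)
    have hgen : ∀ z : ↥(PrimeSpectrum.comap (algebraMap (MvPolynomial (Fin e) A) D) ⁻¹' {P}),
        z.1.asIdeal ≤ q0.asIdeal → z.1 = q0 := fun z hz => by
      refine PrimeSpectrum.ext (haQ z.1.asIdeal z.1.isPrime
        (congrArg PrimeSpectrum.asIdeal ((hfib z).trans hq0p.symm)) (fun j => ?_) hz)
      have hj : (X j : MvPolynomial (Fin e) A) ∈ P.asIdeal := show algebraMap _ D (X j) ∈ q0.asIdeal from hXa j ▸ ha j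
      rw [← (congrArg PrimeSpectrum.asIdeal z.2 : _ = P.asIdeal)] at hj
      exact hXa j ▸ hj
    refine ConstrLib.isOpen_of_stableUnderGeneralization (ConstrLib.isConstructible_of_isLocallyClosed ?_) ?_
    · refine ⟨Subtype.val ⁻¹' (PrimeSpectrum.basicOpen g : Set (PrimeSpectrum D)),
        closure {⟨q0, rfl⟩}, (PrimeSpectrum.basicOpen g).2.preimage continuous_subtype_val, isClosed_closure, ?_⟩
      refine Set.Subset.antisymm (Set.singleton_subset_iff.mpr ⟨hQ0g, subset_closure rfl⟩) ?_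
      rintro z ⟨hzg, hzc⟩
      have hz : q0.asIdeal ≤ z.1.asIdeal :=
        (PrimeSpectrum.le_iff_specializes _ _).mpr ((subtype_specializes_iff _ _).mp (specializes_iff_mem_closure.mpr hzc))
      exact Subtype.ext (hq0max z.1 (hfib z) hzg hz)
    · rintro z w hwz (rfl : z = _)
      exact Subtype.ext (hgen w ((PrimeSpectrum.le_iff_specializes _ _).mpr ((subtype_specializes_iff _ _).mp hwz)))
  obtain ⟨r, hr, hall⟩ := Algebra.zariskisMainProperty_iff'.mp
    (Algebra.ZariskisMainProperty.of_finiteType (R := MvPolynomial (Fin e) A) q0.asIdeal)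
  refine ⟨a, (injective_iff_map_eq_zero _).mpr fun w hw => ?_, r, fun h => hr (hQ0q h), hall⟩
  by_contra hw0
  obtain ⟨l, hl, hlen⟩ := hge r (fun h => hr (h ▸ zero_mem _))
  let c : Fin (l.length + 1) → PrimeSpectrum (MvPolynomial (Fin e) A) := fun i => PrimeSpectrum.comap ψ (l i)
  have hc : StrictMono c := fun i j hij =>
    haveI := (l i).isPrime
    haveI := (l j).isPrime
    comap_lt_comap_of_powers_integral ψ hall (l.strictMono hij) (hl j).1
  let L : LTSeries (PrimeSpectrum (MvPolynomial (Fin e) A)) := LTSeries.mk l.length c hc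
  have hbot : (⟨⊥, Ideal.isPrime_bot⟩ : PrimeSpectrum (MvPolynomial (Fin e) A)) < L.head := by
    refine lt_of_le_of_ne bot_le fun h => hw0 ?_
    have h1 : w ∈ L.head.asIdeal := show (aeval (R := A) a) w ∈ (l 0).asIdeal from hw ▸ zero_mem _
    rw [← h] at h1
    exact h1
  have hLc : ∀ i, ((L.cons ⟨⊥, Ideal.isPrime_bot⟩ hbot) i).asIdeal.comap C = ⊥ := by
    intro j
    have hj : (L.cons ⟨⊥, Ideal.isPrime_bot⟩ hbot).toFun j ∈
        (⟨⊥, Ideal.isPrime_bot⟩ : PrimeSpectrum (MvPolynomial (Fin e) A)) :: L.toList := by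
      rw [← RelSeries.toList_cons _ _ hbot]
      exact RelSeries.mem_toList.mpr ⟨j, rfl⟩
    rcases List.mem_cons.mp hj with h | h
    · exact (congrArg (fun z : PrimeSpectrum (MvPolynomial (Fin e) A) => z.asIdeal.comap C) h).trans
        (Ideal.comap_bot_of_injective _ (C_injective _ _))
    obtain ⟨i, hi⟩ := RelSeries.mem_toList.mp h
    rw [← hi]
    show (L i).asIdeal.comap C = ⊥
    show ((l i).asIdeal.comap ψ).comap C = ⊥
    rw [Ideal.comap_comap]
    rw [show ψ.comp C = algebraMap A D from RingHom.ext fun z => (aeval (R := A) a).commutes z]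
    exact (hl i).2
  have hle1 := length_le_of_comap_C_eq_bot _ hLc
  simp only [RelSeries.cons_length] at hle1
  have : L.length = e := hlen
  omega

/-- Parameters at a prime from bounds on the chains in the fibres of one component. -/
theorem hasParams_of_chains {A B : Type u} [CommRing A] [IsDomain A] [CommRing B] [Algebra A B]
    [Algebra.FiniteType A B] (m q : PrimeSpectrum B) (hmq : m.asIdeal ≤ q.asIdeal) {g : B} (hg : g ∉ q.asIdeal) {e : ℕ}
    (hle : ∀ l : LTSeries (PrimeSpectrum B), (∀ i, m.asIdeal ≤ (l i).asIdeal ∧ g ∉ (l i).asIdeal) →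
      (∀ i, PrimeSpectrum.comap (algebraMap A B) (l i) = PrimeSpectrum.comap (algebraMap A B) l.last) → l.length ≤ e)
    (hge : ∀ h : B, h ∉ m.asIdeal → ∃ l : LTSeries (PrimeSpectrum B),
      (∀ i, m.asIdeal ≤ (l i).asIdeal ∧ h ∉ (l i).asIdeal ∧ (l i).asIdeal.comap (algebraMap A B) = ⊥) ∧
      l.length = e) :
    HasParams A q := by
  let π := Ideal.Quotient.mk m.asIdeal
  let E : PrimeSpectrum (B ⧸ m.asIdeal) ≃o PrimeSpectrum.zeroLocus (R := B) m.asIdeal :=
    Ideal.primeSpectrumQuotientOrderIsoZeroLocus m.asIdeal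
  have hE : ∀ z, (E z).1 = PrimeSpectrum.comap π z := fun _ => rfl
  let qb := E.symm ⟨q, hmq⟩
  have hqb : PrimeSpectrum.comap π qb = q := by rw [← hE, OrderIso.apply_symm_apply]
  obtain ⟨a, ha, r, hr, hall⟩ := exists_params_domain (A := A) (D := B ⧸ m.asIdeal) qb (g := π g)
    (fun h => hg (hqb ▸ h)) (e := e) (fun l hlg hlc => by
      refine hle (LTSeries.mk l.length (fun i => (E (l i)).1) (fun i j hij => E.strictMono (l.strictMono hij)))
        (fun i => ⟨(E (l i)).2, hlg i⟩) fun i => ?_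
      show PrimeSpectrum.comap (algebraMap A B) (PrimeSpectrum.comap π (l i)) =
        PrimeSpectrum.comap (algebraMap A B) (PrimeSpectrum.comap π l.last)
      rw [← PrimeSpectrum.comap_comp_apply, ← PrimeSpectrum.comap_comp_apply]
      exact hlc i)
    (fun h hh => by
      obtain ⟨h', rfl⟩ := Ideal.Quotient.mk_surjective h
      obtain ⟨l, hl, hlen⟩ := hge h' fun hm => hh (Ideal.Quotient.eq_zero_iff_mem.mpr hm)
      refine ⟨LTSeries.mk l.length (fun i => E.symm ⟨l i, (hl i).1⟩)
        (fun i j hij => E.symm.strictMono (l.strictMono hij)), fun i => ⟨fun hmem => (hl i).2.1 ?_, ?_⟩, hlen⟩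
      · have : (E (E.symm ⟨l i, (hl i).1⟩)).1 = l i := by rw [OrderIso.apply_symm_apply]
        rw [← this]
        exact hmem
      · have : (E (E.symm ⟨l i, (hl i).1⟩)).1 = l i := by rw [OrderIso.apply_symm_apply]
        have h1 := (hl i).2.2
        rw [← this] at h1
        exact (Ideal.comap_comap _ _).symm.trans h1)
  obtain ⟨r', rfl⟩ := Ideal.Quotient.mk_surjective r
  exact ⟨m, hmq, e, a, ha, r', fun h => hr (show r' ∈ (PrimeSpectrum.comap π qb).asIdeal from hqb.symm ▸ h), hall⟩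

end Groth.Agent.Chevalley
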