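import Groth.Agent.QSect.Scheme
import Groth.Agent.Chevalley.Params

/-! # The fibre-dimension data behind the openness criterion -/

set_option autoImplicit false
set_option linter.style.haveILetI false

universe u

open CategoryTheory AlgebraicGeometry Limits Topology

namespace Groth.Agent.Chevalley

variable {X Y X' Y' : Type u} [TopologicalSpace X] [TopologicalSpace Y] [TopologicalSpace X'] [TopologicalSpace Y']

/-- A sequence of points, each a proper generalisation of the next. -/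
def IsPtChain {n : ℕ} (c : Fin (n + 1) → X) : Prop := ∀ i j, i < j → c i ⤳ c j ∧ c i ≠ c j

/-- Below a point `ξ` over a maximal point, the fibres near `x` have dimension at most `e`, and the
fibre through `ξ` has dimension at least `e` near `ξ`. -/
def Data (f : X → Y) (x : X) : Prop :=
  ∃ (ξ : X) (U : Set X) (e : ℕ), IsOpen U ∧ x ∈ U ∧ ξ ⤳ x ∧ (∀ z, z ⤳ f ξ → z = f ξ) ∧
    (∀ (n : ℕ) (c : Fin (n + 1) → X), IsPtChain c →
      (∀ i, ξ ⤳ c i ∧ c i ∈ U ∧ f (c i) = f (c 0)) → n ≤ e) ∧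
    (∀ W : Set X, IsOpen W → ξ ∈ W → ∃ c : Fin (e + 1) → X, IsPtChain c ∧
      ∀ i, ξ ⤳ c i ∧ c i ∈ W ∧ f (c i) = f ξ)

omit [TopologicalSpace Y] in
theorem IsPtChain.map {n : ℕ} {c : Fin (n + 1) → X'} (h : IsPtChain c) {j : X' → X} (hj : IsEmbedding j) :
    IsPtChain (j ∘ c) :=
  fun a b hab => ⟨(h a b hab).1.map hj.continuous, fun he => (h a b hab).2 (hj.injective he)⟩

/-- The data restrict along open embeddings of source and target. -/
theorem Data.restrict {f : X → Y} {f' : X' → Y'} {j : X' → X} {k : Y' → Y} (hj : IsOpenEmbedding j)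
    (hk : IsOpenEmbedding k) (w : ∀ z, f (j z) = k (f' z)) {x : X'} (h : Data f (j x)) : Data f' x := by
  obtain ⟨ξ, U, e, hU, hxU, hξx, hmax, hle, hge⟩ := h
  obtain ⟨ξ', rfl⟩ : ξ ∈ Set.range j := hξx.mem_open hj.isOpen_range ⟨x, rfl⟩
  refine ⟨ξ', j ⁻¹' U, e, hU.preimage hj.continuous, hxU, hj.isInducing.specializes_iff.mp hξx,
    fun z hz => hk.injective ((hmax _ (w ξ' ▸ hz.map hk.continuous)).trans (w ξ')),
    fun n c hc hcc => hle n (j ∘ c) (hc.map hj.isEmbedding) fun i => ⟨(hcc i).1.map hj.continuous, (hcc i).2.1,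
      by show f (j (c i)) = f (j (c 0)); rw [w, w, (hcc i).2.2]⟩, fun W hW hξW => ?_⟩
  obtain ⟨c, hc, hcc⟩ := hge (j '' W) (hj.isOpenMap W hW) ⟨ξ', hξW, rfl⟩
  choose c' hc' hc'' using fun i => (hcc i).2.1
  refine ⟨c', fun a b hab => ⟨hj.isInducing.specializes_iff.mp ?_, fun he => (hc a b hab).2 ?_⟩,
    fun i => ⟨hj.isInducing.specializes_iff.mp ?_, hc' i, hk.injective ?_⟩⟩
  · rw [hc'', hc'']; exact (hc a b hab).1
  · rw [← hc'', ← hc'', he]
  · rw [hc'']; exact (hcc i).1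
  · rw [← w, ← w, hc'']; exact (hcc i).2.2

/-- The data push forward along closed embeddings of the source. -/
theorem Data.of_isClosedEmbedding {f : X → Y} {j : X' → X} (hj : IsClosedEmbedding j) {x : X'}
    (h : Data (f ∘ j) x) : Data f (j x) := by
  obtain ⟨ξ, U, e, hU, hxU, hξx, hmax, hle, hge⟩ := h
  obtain ⟨U', hU', rfl⟩ := hj.isInducing.isOpen_iff.mp hU
  refine ⟨j ξ, U', e, hU', hxU, hξx.map hj.continuous, hmax, fun n c hc hcc => ?_, fun W hW hξW => ?_⟩
  · choose c' hc' using fun i => (hcc i).1.mem_closed hj.isClosed_range ⟨ξ, rfl⟩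
    refine hle n c' (fun a b hab => ⟨hj.isInducing.specializes_iff.mp ?_, fun he => (hc a b hab).2 ?_⟩)
      fun i => ⟨hj.isInducing.specializes_iff.mp ?_, ?_, ?_⟩
    · rw [hc', hc']; exact (hc a b hab).1
    · rw [← hc', ← hc', he]
    · rw [hc']; exact (hcc i).1
    · show j (c' i) ∈ U'; rw [hc']; exact (hcc i).2.1
    · show f (j (c' i)) = f (j (c' 0)); rw [hc', hc']; exact (hcc i).2.2
  · obtain ⟨c, hc, hcc⟩ := hge (j ⁻¹' W) (hW.preimage hj.continuous) hξW
    exact ⟨j ∘ c, hc.map hj.isEmbedding, fun i => ⟨(hcc i).1.map hj.continuous, (hcc i).2.1, (hcc i).2.2⟩⟩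

open PrimeSpectrum in
/-- On affine schemes over a domain the data give parameters. -/
theorem hasParams_of_data {A B : Type u} [CommRing A] [IsDomain A] [CommRing B] [Algebra A B]
    [Algebra.FiniteType A B] {q : PrimeSpectrum B} (h : Data (PrimeSpectrum.comap (algebraMap A B)) q) :
    HasParams A q := by
  obtain ⟨ξ, U, e, hU, hqU, hξq, hmax, hle, hge⟩ := h
  obtain ⟨_, ⟨g, rfl⟩, hqg, hgU⟩ := isTopologicalBasis_basic_opens.exists_subset_of_mem_open hqU hU
  have hbot : PrimeSpectrum.comap (algebraMap A B) ξ = ⟨⊥, Ideal.isPrime_bot⟩ :=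
    (hmax ⟨⊥, Ideal.isPrime_bot⟩ ((le_iff_specializes _ _).mp (bot_le (α := Ideal A)))).symm
  refine hasParams_of_chains ξ q ((le_iff_specializes _ _).mpr hξq) hqg (e := e) (fun l hl hlc => ?_) fun h hh => ?_
  · refine hle l.length l (fun i j hij => ⟨(le_iff_specializes _ _).mp (l.strictMono hij).le, (l.strictMono hij).ne⟩)
      fun i => ⟨(le_iff_specializes _ _).mp (hl i).1, hgU (hl i).2, (hlc i).trans (hlc 0).symm⟩
  · obtain ⟨c, hc, hcc⟩ := hge (PrimeSpectrum.basicOpen h) (PrimeSpectrum.basicOpen h).2 hh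
    exact ⟨LTSeries.mk e c fun i j hij => lt_of_le_of_ne ((le_iff_specializes _ _).mpr (hc i j hij).1) (hc i j hij).2,
      fun i => ⟨(le_iff_specializes _ _).mpr (hcc i).1, (hcc i).2.1,
        congrArg PrimeSpectrum.asIdeal ((hcc i).2.2.trans hbot)⟩, rfl⟩

end Groth.Agent.Chevalley

namespace Groth.Agent.Chevalley


variable {X Y : Scheme.{u}} (f : X ⟶ Y) [LocallyOfFiniteType f]

/-- Equidimensionality near `x` gives the data, for any generic point of a component through `x`. -/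
theorem data_of_equidim {x : X} (U : X.Opens) (hx : x ∈ U) {e : ℕ}
    (hdim : ∀ x' : (↥U : Type u), ∀ Z ∈ irreducibleComponents (↥((U.ι ≫ f).fiber ((U.ι ≫ f).base x')) : Type u),
      topologicalKrullDim (↥Z : Type u) = e)
    {ξ : X} (hξ : ∀ z, z ⤳ ξ → z = ξ) (hξx : ξ ⤳ x) (hmax : ∀ z, z ⤳ f ξ → z = f ξ) :
    Data f x := by
  refine ⟨ξ, U, e, U.2, hx, hξx, hmax, fun n c hc hcc => ?_, fun W hW hξW => ?_⟩
  · let l : LTSeries ↥(U.toScheme) := LTSeries.mk n (fun i => ⟨c i.rev, (hcc _).2.1⟩) fun i j hij => by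
      obtain ⟨h1, h2⟩ := hc _ _ (Fin.rev_lt_rev.mpr hij)
      refine lt_iff_le_not_ge.mpr ⟨(subtype_specializes_iff (⟨c j.rev, (hcc _).2.1⟩ : U) ⟨c i.rev, (hcc _).2.1⟩).mpr h1,
        fun h' => h2 ((((subtype_specializes_iff (⟨c i.rev, (hcc _).2.1⟩ : U) ⟨c j.rev, (hcc _).2.1⟩).mp h').antisymm h1).eq.symm)⟩
    refine QSect.length_le_of_fibre (U.ι ≫ f) hdim (f (c 0)) l fun i => ?_
    exact (hcc _).2.2
  · have hξU : ξ ∈ U := hξx.mem_open U.2 hx
    obtain ⟨l, hlast, hl, hlen⟩ := QSect.exists_chain_of_fibre (U.ι ≫ f) hdim ⟨ξ, hξU⟩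
      (fun z hz => Subtype.ext (hξ _ (hz.map continuous_subtype_val)))
      ⟨U.ι ⁻¹' W, hW.preimage U.ι.continuous⟩ hξW
    subst hlen
    refine ⟨fun i => (l i.rev).1, fun i j hij => ?_, fun i => ⟨?_, (hl _).2, (hl _).1⟩⟩
    · have h1 := l.strictMono (Fin.rev_lt_rev.mpr hij)
      exact ⟨(subtype_specializes_iff (l i.rev) (l j.rev)).mp h1.le, fun he => h1.ne (Subtype.ext he).symm⟩
    · have h1 : l i.rev ≤ l.last := l.monotone (Fin.le_last _)
      rw [hlast] at h1
      exact (subtype_specializes_iff (⟨ξ, hξU⟩ : U) (l i.rev)).mp h1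

end Groth.Agent.Chevalley
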