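import Groth.Agent.Chevalley.Scheme
import Groth.Agent.FlatMisc.FibreDimScheme
import Groth.Prelude.Def_EGA43

/-! # Irreducible neighbourhoods over unibranch bases, and the data in the classical cases -/

set_option autoImplicit false
set_option linter.style.haveILetI false

universe u

open CategoryTheory AlgebraicGeometry Limits Topology TopologicalSpace

namespace Groth.Agent.Chevalley

variable {X Y : Scheme.{u}}

/-- At a unibranch point only one component passes. -/
theorem eq_of_isUnibranch {y : Y} (h : CAlg2.IsUnibranch (Y.presheaf.stalk y)) {a b : Y}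
    (ha : ∀ z, z ⤳ a → z = a) (hb : ∀ z, z ⤳ b → z = b) (hay : a ⤳ y) (hby : b ⤳ y) : a = b := by
  obtain ⟨p, rfl⟩ : a ∈ Set.range (Y.fromSpecStalk y) := by rw [Scheme.range_fromSpecStalk]; exact hay
  obtain ⟨q, rfl⟩ : b ∈ Set.range (Y.fromSpecStalk y) := by rw [Scheme.range_fromSpecStalk]; exact hby
  haveI : (nilradical (Y.presheaf.stalk y)).IsPrime := (Ideal.Quotient.isDomain_iff_prime _).mp h.1
  let n : PrimeSpectrum (Y.presheaf.stalk y) := ⟨nilradical _, inferInstance⟩
  have hn : ∀ r : PrimeSpectrum (Y.presheaf.stalk y), n ⤳ r := fun r =>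
    (PrimeSpectrum.le_iff_specializes _ _).mp (nilradical_le_prime r.asIdeal)
  rw [← ha _ ((hn p).map (Y.fromSpecStalk y).continuous), hb _ ((hn q).map (Y.fromSpecStalk y).continuous)]

/-- Finitely many components, unibranch point: an irreducible neighbourhood. -/
theorem exists_irreducible_nhd (h : ∀ y : Y, CAlg2.IsUnibranch (Y.presheaf.stalk y))
    (V : Y.Opens) (hfin : (irreducibleComponents (↥V : Type u)).Finite) (y : Y) (hy : y ∈ V) :
    ∃ N : Set Y, IsOpen N ∧ y ∈ N ∧ IsPreirreducible N := by
  haveI : QuasiSober (↥V : Type u) := V.2.isOpenEmbedding_subtypeVal.quasiSober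
  let y' : (↥V : Type u) := ⟨y, hy⟩
  let U : Set (↥V : Type u) := (⋃₀ {C ∈ irreducibleComponents (↥V : Type u) | y' ∉ C})ᶜ
  have hUo : IsOpen U := by
    refine IsClosed.isOpen_compl (self := ?_)
    rw [Set.sUnion_eq_biUnion]
    exact (hfin.subset fun C hC => hC.1).isClosed_biUnion fun C hC => isClosed_of_mem_irreducibleComponents C hC.1
  have hyU : y' ∈ U := fun ⟨C, hC, hyC⟩ => hC.2 hyC
  have hsub : U ⊆ irreducibleComponent y' := fun z hz => by
    by_contra hne
    obtain ⟨g₁, hg₁⟩ := QuasiSober.sober (isIrreducible_irreducibleComponent (x := z)) isClosed_irreducibleComponent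
    obtain ⟨g₂, hg₂⟩ := QuasiSober.sober (isIrreducible_irreducibleComponent (x := y')) isClosed_irreducibleComponent
    have hy1 : y' ∈ irreducibleComponent z := by
      by_contra h1
      exact hz ⟨_, ⟨irreducibleComponent_mem_irreducibleComponents z, h1⟩, mem_irreducibleComponent⟩
    have hmax : ∀ (C : Set (↥V : Type u)) (_ : C ∈ irreducibleComponents (↥V : Type u)) (g : (↥V : Type u)),
        IsGenericPoint g C → ∀ w : Y, w ⤳ g.1 → w = g.1 := fun C hC g hg w hw => by
      have hwV : w ∈ V := hw.mem_open V.2 g.2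
      exact congrArg Subtype.val
        (QSect.max_of_component hC hg ⟨w, hwV⟩ ((subtype_specializes_iff (⟨w, hwV⟩ : V) g).mpr hw))
    have heq := eq_of_isUnibranch (h y) (hmax _ (irreducibleComponent_mem_irreducibleComponents z) g₁ hg₁)
      (hmax _ (irreducibleComponent_mem_irreducibleComponents y') g₂ hg₂)
      ((hg₁.specializes hy1).map continuous_subtype_val)
      ((hg₂.specializes mem_irreducibleComponent).map continuous_subtype_val)
    refine hne ?_
    rw [← hg₂.def, ← Subtype.ext heq, hg₁.def]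
    exact mem_irreducibleComponent
  refine ⟨Subtype.val '' U, V.2.isOpenEmbedding_subtypeVal.isOpenMap U hUo, ⟨y', hyU, rfl⟩,
    IsPreirreducible.image ?_ _ continuous_subtype_val.continuousOn⟩
  exact (isIrreducible_irreducibleComponent (x := y')).isPreirreducible.open_subset hUo hsub

theorem exists_irreducible_nhd_of_finite (h : ∀ y : Y, CAlg2.IsUnibranch (Y.presheaf.stalk y))
    (hfin : (irreducibleComponents (Y : Type u)).Finite) (y : Y) :
    ∃ N : Set Y, IsOpen N ∧ y ∈ N ∧ IsPreirreducible N := by
  refine exists_irreducible_nhd h ⊤ ?_ y trivial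
  refine (hfin.preimage (Set.image_injective.mpr Subtype.val_injective).injOn).subset fun C hC => ?_
  refine ⟨hC.1.image _ continuous_subtype_val.continuousOn, fun Z hZ hle => ?_⟩
  let s : Y → (↥(⊤ : Y.Opens) : Type u) := fun z => ⟨z, trivial⟩
  have hs : Continuous s := continuous_id.subtype_mk _
  intro z hz
  have h1 : s '' Z ⊆ C := hC.2 (hZ.image s hs.continuousOn)
    (fun w hw => ⟨w.1, hle ⟨w, hw, rfl⟩, Subtype.ext rfl⟩)
  exact ⟨s z, h1 ⟨z, hz, rfl⟩, rfl⟩

theorem exists_irreducible_nhd_of_noetherian [IsLocallyNoetherian Y]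
    (h : ∀ y : Y, CAlg2.IsUnibranch (Y.presheaf.stalk y)) (y : Y) :
    ∃ N : Set Y, IsOpen N ∧ y ∈ N ∧ IsPreirreducible N := by
  obtain ⟨_, ⟨V, hV, rfl⟩, hyV, -⟩ := Y.isBasis_affineOpens.exists_subset_of_mem_open (Set.mem_univ y) isOpen_univ
  haveI := IsLocallyNoetherian.component_noetherian (⟨V, hV⟩ : Y.affineOpens)
  haveI : TopologicalSpace.NoetherianSpace (↥V : Type u) :=
    (noetherianSpace_iff_of_homeomorph (IsAffineOpen.isoSpec hV).hom.homeomorph).mpr inferInstance
  exact exists_irreducible_nhd h V TopologicalSpace.NoetherianSpace.finite_irreducibleComponents y hyV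

end Groth.Agent.Chevalley

namespace Groth.Agent.Chevalley

variable {X Y : Scheme.{u}}

/-- Equidimensional points carry the data. -/
theorem data_of_isEquidimAt (f : X ⟶ Y) [LocallyOfFiniteType f] {x : X} (h : EGA43.IsEquidimAt f x) :
    Data f x := by
  obtain ⟨e, U, hxU, hcomp, hdim⟩ := h
  haveI : QuasiSober (↥U : Type u) := U.2.isOpenEmbedding_subtypeVal.quasiSober
  let x' : (↥U : Type u) := ⟨x, hxU⟩
  have hC := irreducibleComponent_mem_irreducibleComponents x'
  obtain ⟨η, hη⟩ := QuasiSober.sober hC.1 (isClosed_of_mem_irreducibleComponents _ hC)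
  obtain ⟨W, hW, -, hWeq⟩ := hcomp _ hC
  refine data_of_equidim f U hxU hdim (ξ := η.1) (fun z hz => ?_)
    ((hη.specializes mem_irreducibleComponent).map continuous_subtype_val) ?_
  · have hzU : z ∈ U := hz.mem_open U.2 η.2
    exact congrArg Subtype.val
      (QSect.max_of_component hC hη ⟨z, hzU⟩ ((subtype_specializes_iff (⟨z, hzU⟩ : U) η).mpr hz))
  · refine QSect.max_of_component hW ?_
    have := hη.image (U.ι ≫ f).continuous
    exact (show closure (⇑(U.ι ≫ f) '' irreducibleComponent x') = W from hWeq) ▸ this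

/-- Universal openness for equidimensional morphisms to locally Noetherian geometrically unibranch schemes. -/
theorem universallyOpen_of_equidim [IsLocallyNoetherian Y]
    (hY : ∀ y : Y, CAlg2.IsGeomUnibranch (Y.presheaf.stalk y)) (f : X ⟶ Y) [LocallyOfFiniteType f]
    (h : ∀ x : X, EGA43.IsEquidimAt f x) : UniversallyOpen f :=
  universallyOpen_of_data hY (exists_irreducible_nhd_of_noetherian fun y => (hY y).1) f
    fun x => data_of_isEquidimAt f (h x)

end Groth.Agent.Chevalley
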