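import Mathlib.RingTheory.ZariskisMainTheorem
import Mathlib.RingTheory.IntegralClosure.GoingDown
import Mathlib.RingTheory.Spectrum.Prime.Topology
import Mathlib.RingTheory.Flat.Basic

/-! # Openness of quasi-finite algebras over normal domains -/

set_option autoImplicit false

universe u

open Polynomial PrimeSpectrum

namespace Groth.Agent.Chevalley

variable {R : Type u} [CommRing R] [IsDomain R] [IsIntegrallyClosed R]

/-- The image of a basic open in an integral extension of a normal domain. -/
theorem image_basicOpen_eq {C : Type u} [CommRing C] [IsDomain C] [Algebra R C] [FaithfulSMul R C]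
    [Algebra.IsIntegral R C] (s : C) :
    PrimeSpectrum.comap (algebraMap R C) '' (PrimeSpectrum.basicOpen s : Set (PrimeSpectrum C)) =
      {p | ∃ i, i ≠ (minpoly R s).natDegree ∧ (minpoly R s).coeff i ∉ p.asIdeal} := by
  have hs : IsIntegral R s := Algebra.IsIntegral.isIntegral s
  set μ := minpoly R s
  ext p
  constructor
  · rintro ⟨Q, hQs, rfl⟩
    by_contra hcon
    simp only [Set.mem_setOf_eq, not_exists, not_and, not_not] at hcon
    apply hQs
    refine Q.isPrime.mem_of_pow_mem μ.natDegree ?_
    have h3 : aeval s (μ - X ^ μ.natDegree) ∈ Q.asIdeal := by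
      rw [aeval_eq_sum_range]
      refine Submodule.sum_mem _ fun i _ => ?_
      rw [Algebra.smul_def]
      refine Ideal.mul_mem_right _ _ ?_
      rw [coeff_sub, coeff_X_pow]
      by_cases hi : i = μ.natDegree
      · rw [if_pos hi, hi, (minpoly.monic hs).coeff_natDegree, sub_self, map_zero]
        exact zero_mem _
      · rw [if_neg hi, sub_zero]
        exact hcon i hi
    rw [map_sub, minpoly.aeval, zero_sub, map_pow, aeval_X, neg_mem_iff] at h3
    exact h3
  · rintro ⟨i, hi, hip⟩
    by_contra hcon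
    apply hip
    have hrad : s ∈ (p.asIdeal.map (algebraMap R C)).radical := by
      rw [Ideal.radical_eq_sInf, Submodule.mem_sInf]
      rintro Q' ⟨hQ', hQp⟩
      haveI := hQp
      obtain ⟨Q, hQle, hQ, hQover⟩ := Ideal.exists_ideal_le_liesOver_of_le (S := C) (p := p.asIdeal)
        (q := Ideal.under R Q') Q' (Ideal.map_le_iff_le_comap.mp hQ')
      by_contra hs'
      exact hcon ⟨⟨Q, hQ⟩, fun h => hs' (hQle h), PrimeSpectrum.ext hQover.over.symm⟩
    obtain ⟨N, hN⟩ := hrad
    obtain ⟨f, hfm, hfdeg, hf0⟩ := exists_monic_aeval_eq_zero_forall_mem_of_mem_map hN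
    have hdvd : μ ∣ f.comp (X ^ N) := minpoly.isIntegrallyClosed_dvd hs (by
      rw [aeval_comp, map_pow, aeval_X]; exact hfdeg)
    have hfmap : f.map (Ideal.Quotient.mk p.asIdeal) = X ^ f.natDegree := by
      ext j
      obtain hj | rfl | hj := lt_trichotomy j f.natDegree
      · simpa [hj.ne, Ideal.Quotient.eq_zero_iff_mem] using hf0 _ hj.ne
      · simp [hfm]
      · simp [coeff_eq_zero_of_natDegree_lt hj, hj.ne']
    have h4 : μ.map (Ideal.Quotient.mk p.asIdeal) ∣ X ^ (N * f.natDegree) := by
      have := Polynomial.map_dvd (Ideal.Quotient.mk p.asIdeal) hdvd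
      rwa [map_comp, hfmap, Polynomial.map_pow, map_X, pow_comp, X_comp, ← pow_mul] at this
    obtain ⟨j, -, hj⟩ := (dvd_prime_pow (prime_X (R := R ⧸ p.asIdeal)) _).mp h4
    have h5 := eq_of_monic_of_associated ((minpoly.monic hs).map _) (monic_X_pow j) hj
    have h6 : j = μ.natDegree := by
      have := congrArg natDegree h5
      rwa [(minpoly.monic hs).natDegree_map, natDegree_X_pow, eq_comm] at this
    rw [← Ideal.Quotient.eq_zero_iff_mem, ← coeff_map, h5, coeff_X_pow, if_neg (h6 ▸ hi)]

theorem isOpen_image_basicOpen {C : Type u} [CommRing C] [IsDomain C] [Algebra R C] [FaithfulSMul R C]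
    [Algebra.IsIntegral R C] (s : C) :
    IsOpen (PrimeSpectrum.comap (algebraMap R C) '' (PrimeSpectrum.basicOpen s : Set (PrimeSpectrum C))) := by
  rw [image_basicOpen_eq]
  have : {p : PrimeSpectrum R | ∃ i, i ≠ (minpoly R s).natDegree ∧ (minpoly R s).coeff i ∉ p.asIdeal} =
      ⋃ i ∈ {i | i ≠ (minpoly R s).natDegree},
        (PrimeSpectrum.basicOpen ((minpoly R s).coeff i) : Set (PrimeSpectrum R)) := by
    ext p
    simp
  rw [this]
  exact isOpen_biUnion fun i _ => (PrimeSpectrum.basicOpen _).isOpen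

/-- Quasi-finite points of domains of finite type containing a normal domain are open points. -/
theorem image_basicOpen_mem_nhds {D : Type u} [CommRing D] [IsDomain D] [Algebra R D] [FaithfulSMul R D]
    [Algebra.FiniteType R D] (q : PrimeSpectrum D) [Algebra.QuasiFiniteAt R q.asIdeal] {g : D}
    (hg : g ∉ q.asIdeal) :
    PrimeSpectrum.comap (algebraMap R D) '' (PrimeSpectrum.basicOpen g : Set (PrimeSpectrum D)) ∈
      nhds (PrimeSpectrum.comap (algebraMap R D) q) := by
  obtain ⟨r, hr, hbij⟩ := Algebra.ZariskisMainProperty.of_finiteType (R := R) q.asIdeal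
  obtain ⟨r', hr', hint, hall⟩ := Algebra.zariskisMainProperty_iff.mp ⟨r, hr, hbij⟩
  let C := integralClosure R D
  haveI : FaithfulSMul R C := (faithfulSMul_iff_algebraMap_injective R C).mpr fun a b h =>
    FaithfulSMul.algebraMap_injective R D (congrArg Subtype.val h)
  obtain ⟨k, hk⟩ := hall g
  let c : C := ⟨r' ^ k * g, hk⟩
  let s : C := r * (⟨r', hint⟩ * c)
  have hsq : (s : D) ∉ q.asIdeal := by
    show (r : D) * (r' * (r' ^ k * g)) ∉ q.asIdeal
    exact q.isPrime.mul_notMem hr (q.isPrime.mul_notMem hr'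
      (q.isPrime.mul_notMem (fun h => hr' (q.isPrime.mem_of_pow_mem k h)) hg))
  refine Filter.mem_of_superset ((isOpen_image_basicOpen (R := R) s).mem_nhds
    ⟨PrimeSpectrum.comap C.val.toRingHom q, hsq, ?_⟩) ?_
  · exact PrimeSpectrum.ext rfl
  rintro _ ⟨Q, hQ, rfl⟩
  have hQr : r ∉ Q.asIdeal := fun h => hQ (Ideal.mul_mem_right _ _ h)
  obtain ⟨Q₁, hQ₁⟩ : Q ∈ Set.range (PrimeSpectrum.comap (algebraMap C (Localization.Away r))) := by
    rw [PrimeSpectrum.localization_away_comap_range (Localization.Away r) r]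
    exact hQr
  let e := RingEquiv.ofBijective _ hbij
  let Q₂ : PrimeSpectrum (Localization.Away (r : D)) := PrimeSpectrum.comap e.symm.toRingHom Q₁
  let Q' : PrimeSpectrum D := PrimeSpectrum.comap (algebraMap D (Localization.Away (r : D))) Q₂
  have hQ' : PrimeSpectrum.comap C.val.toRingHom Q' = Q := by
    rw [← hQ₁]
    refine PrimeSpectrum.ext ?_
    ext x
    show e.symm (algebraMap D (Localization.Away (r : D)) x.1) ∈ Q₁.asIdeal ↔
      algebraMap C (Localization.Away r) x ∈ Q₁.asIdeal
    have he : e (algebraMap C (Localization.Away r) x) = algebraMap D (Localization.Away (r : D)) x.1 := by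
      simp only [e, RingEquiv.ofBijective_apply, Localization.awayMap, IsLocalization.Away.map,
        C]
      exact IsLocalization.map_eq _ x
    rw [← he, RingEquiv.symm_apply_apply]
  refine ⟨Q', fun hgQ => hQ ?_, ?_⟩
  · rw [← hQ']
    show (r : D) * (r' * (r' ^ k * g)) ∈ Q'.asIdeal
    exact Ideal.mul_mem_left _ _ (Ideal.mul_mem_left _ _ (Ideal.mul_mem_left _ _ hgQ))
  · rw [← hQ']
    exact PrimeSpectrum.ext rfl

end Groth.Agent.Chevalley
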