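import Groth.Agent.Chevalley.Unibranch
import Mathlib.RingTheory.Spectrum.Prime.IsOpenComapC
import Mathlib.RingTheory.Polynomial.Basic

/-! # Openness after adjoining variables -/

set_option autoImplicit false

universe u

open PrimeSpectrum MvPolynomial

namespace Groth.Agent.Chevalley

/-- Parameters at a prime: a prime `m` below `q` such that `B/m` is, at `q`, quasi-finite over a
polynomial ring over the base embedded in it. -/
def HasParams (A : Type u) {B : Type u} [CommRing A] [CommRing B] [Algebra A B] (q : PrimeSpectrum B) : Prop :=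
  ∃ (m : PrimeSpectrum B) (_ : m.asIdeal ≤ q.asIdeal) (e : ℕ) (a : Fin e → B ⧸ m.asIdeal),
    Function.Injective (aeval (R := A) a) ∧ ∃ r : B, r ∉ q.asIdeal ∧ ∀ x : B ⧸ m.asIdeal, ∃ k : ℕ,
      (aeval (R := A) a).toRingHom.IsIntegralElem ((Ideal.Quotient.mk _ r) ^ k * x)

theorem isIntegrallyClosed_iterated (A' : Type u) [CommRing A'] [IsDomain A'] [IsIntegrallyClosed A'] (n e : ℕ) :
    IsIntegrallyClosed (MvPolynomial (Fin e) (MvPolynomial (Fin n) A')) :=
  haveI := QSect.isIntegrallyClosed_mvPolynomial A' n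
  QSect.isIntegrallyClosed_mvPolynomial _ e

theorem isIntegral_map {A A' : Type u} [CommRing A] [CommRing A'] (f : A →+* A') (hf : f.IsIntegral)
    (σ : Type) : (MvPolynomial.map (σ := σ) f).IsIntegral := by
  intro x
  induction x using MvPolynomial.induction_on with
  | C c =>
    obtain ⟨p, hp, hp0⟩ := hf c
    refine ⟨p.map C, hp.map _, ?_⟩
    rw [Polynomial.eval₂_map, show (MvPolynomial.map (σ := σ) f).comp C = C.comp f from
      RingHom.ext fun z => map_C _ z, ← Polynomial.hom_eval₂, hp0, map_zero]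
  | add p q hp hq =>
    letI := (MvPolynomial.map (σ := σ) f).toAlgebra
    exact IsIntegral.add (R := MvPolynomial σ A) hp hq
  | mul_X p i hp =>
    letI := (MvPolynomial.map (σ := σ) f).toAlgebra
    have : IsIntegral (MvPolynomial σ A) (X i : MvPolynomial σ A') := by
      rw [show (X i : MvPolynomial σ A') = algebraMap (MvPolynomial σ A) (MvPolynomial σ A') (X i) from (map_X f i).symm]
      exact isIntegral_algebraMap
    exact IsIntegral.mul (R := MvPolynomial σ A) hp this

theorem image_map_mem_nhds {A A' : Type u} [CommRing A] [IsDomain A] [CommRing A'] [IsDomain A']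
    [IsIntegrallyClosed A'] [Algebra A A'] [FaithfulSMul A A'] [Algebra.IsIntegral A A']
    (hinj : ∀ n e : ℕ, Function.Injective (PrimeSpectrum.comap
      (MvPolynomial.map (σ := Fin e) (MvPolynomial.map (σ := Fin n) (algebraMap A A')))))
    {D : Type u} [CommRing D] [IsDomain D] [Algebra A D] [Algebra.FiniteType A D]
    {e : ℕ} {a : Fin e → D} (ha : Function.Injective (aeval (R := A) a)) {r : D}
    (hall : ∀ x : D, ∃ k : ℕ, (aeval (R := A) a).toRingHom.IsIntegralElem (r ^ k * x))
    {n : ℕ} (Q : PrimeSpectrum (MvPolynomial (Fin n) D)) (hr : C r ∉ Q.asIdeal)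
    {G : MvPolynomial (Fin n) D} (hG : G ∉ Q.asIdeal) :
    PrimeSpectrum.comap (MvPolynomial.map (σ := Fin n) (algebraMap A D)) ''
        (PrimeSpectrum.basicOpen G : Set (PrimeSpectrum (MvPolynomial (Fin n) D))) ∈
      nhds (PrimeSpectrum.comap (MvPolynomial.map (σ := Fin n) (algebraMap A D)) Q) := by
  classical
  letI : Algebra (MvPolynomial (Fin e) (MvPolynomial (Fin n) A)) (MvPolynomial (Fin n) D) :=
    (eval₂Hom (MvPolynomial.map (algebraMap A D)) fun j => C (a j)).toAlgebra
  have hC : ∀ z, algebraMap (MvPolynomial (Fin e) (MvPolynomial (Fin n) A)) (MvPolynomial (Fin n) D) (C z) =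
      MvPolynomial.map (algebraMap A D) z := fun z => eval₂Hom_C _ _ _
  have hX : ∀ j, algebraMap (MvPolynomial (Fin e) (MvPolynomial (Fin n) A)) (MvPolynomial (Fin n) D) (X j) =
      C (a j) := fun j => eval₂Hom_X' _ _ _
  have hψ : algebraMap (MvPolynomial (Fin e) (MvPolynomial (Fin n) A)) (MvPolynomial (Fin n) D) =
      (MvPolynomial.map (aeval (R := A) a).toRingHom).comp (commAlgEquiv A (Fin e) (Fin n)).toRingEquiv.toRingHom := by
    refine ringHom_ext (fun z => ?_) fun j => ?_
    · rw [hC]
      show _ = MvPolynomial.map _ (commAlgEquiv A (Fin e) (Fin n) (C z))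
      rw [commAlgEquiv_C, MvPolynomial.map_map]
      exact RingHom.congr_fun (congrArg MvPolynomial.map
        (RingHom.ext fun w => ((aeval (R := A) a).commutes w).symm)) z
    · rw [hX]
      show _ = MvPolynomial.map _ (commAlgEquiv A (Fin e) (Fin n) (X j))
      rw [commAlgEquiv_X, map_C]
      exact congrArg C (aeval_X a j).symm
  haveI : FaithfulSMul (MvPolynomial (Fin e) (MvPolynomial (Fin n) A)) (MvPolynomial (Fin n) D) :=
    (faithfulSMul_iff_algebraMap_injective _ _).mpr (by
      rw [hψ]
      exact (MvPolynomial.map_injective _ ha).comp (commAlgEquiv A (Fin e) (Fin n)).injective)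
  haveI : Algebra.FiniteType (MvPolynomial (Fin e) (MvPolynomial (Fin n) A)) (MvPolynomial (Fin n) D) := by
    obtain ⟨s, hs⟩ := (‹Algebra.FiniteType A D›).out
    let t : Finset (MvPolynomial (Fin n) D) := s.image C ∪ Finset.univ.image X
    refine ⟨⟨t, ?_⟩⟩
    have hX' : ∀ i : Fin n, (X i : MvPolynomial (Fin n) D) ∈ Algebra.adjoin (MvPolynomial (Fin e) (MvPolynomial (Fin n) A))
        (t : Set (MvPolynomial (Fin n) D)) := fun i => by
      apply Algebra.subset_adjoin
      simp [t]
    have hC' : ∀ d : D, (C d : MvPolynomial (Fin n) D) ∈ Algebra.adjoin (MvPolynomial (Fin e) (MvPolynomial (Fin n) A))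
        (t : Set (MvPolynomial (Fin n) D)) := by
      intro d
      have hd : d ∈ Algebra.adjoin A (s : Set D) := hs ▸ Algebra.mem_top
      induction hd using Algebra.adjoin_induction with
      | mem z hz =>
        apply Algebra.subset_adjoin
        simp only [t, Finset.coe_union, Finset.coe_image]
        exact Or.inl ⟨z, hz, rfl⟩
      | algebraMap z =>
        rw [← map_C (algebraMap A D) z, ← hC]
        exact Subalgebra.algebraMap_mem _ _
      | add z w _ _ hz hw => rw [C_add]; exact add_mem hz hw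
      | mul z w _ _ hz hw => rw [C_mul]; exact mul_mem hz hw
    rw [eq_top_iff]
    intro x hx
    clear hx
    induction x using MvPolynomial.induction_on with
    | C d => exact hC' d
    | add p q hp hq => exact add_mem hp hq
    | mul_X p i hp => exact mul_mem hp (hX' i)
  haveI : Algebra.QuasiFiniteAt (MvPolynomial (Fin e) (MvPolynomial (Fin n) A)) Q.asIdeal := by
    refine Algebra.ZariskisMainProperty.quasiFiniteAt _ (Algebra.zariskisMainProperty_iff'.mpr
      ⟨C r, hr, fun x => ?_⟩)
    have hbase : ∀ d : D, (aeval (R := A) a).toRingHom.IsIntegralElem d →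
        IsIntegral (MvPolynomial (Fin e) (MvPolynomial (Fin n) A)) (C d : MvPolynomial (Fin n) D) := by
      intro d hd
      obtain ⟨p, hp, hp0⟩ := hd
      refine ⟨p.map (eval₂Hom (C.comp C) X : MvPolynomial (Fin e) A →+* _), hp.map _, ?_⟩
      rw [Polynomial.eval₂_map]
      rw [show (algebraMap (MvPolynomial (Fin e) (MvPolynomial (Fin n) A)) (MvPolynomial (Fin n) D)).comp
          (eval₂Hom (C.comp C) X : MvPolynomial (Fin e) A →+* _) = C.comp (aeval (R := A) a).toRingHom from
        ringHom_ext (fun z => by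
            rw [RingHom.comp_apply, eval₂Hom_C, RingHom.comp_apply, hC, map_C]
            exact congrArg C ((aeval (R := A) a).commutes z).symm) fun j => by
          rw [RingHom.comp_apply, eval₂Hom_X', hX, RingHom.comp_apply]
          exact congrArg C (aeval_X a j).symm, ← Polynomial.hom_eval₂, hp0, map_zero]
    induction x using MvPolynomial.induction_on with
    | C d =>
      obtain ⟨k, hk⟩ := hall d
      exact ⟨k, by rw [← C_pow, ← C_mul]; exact hbase _ hk⟩
    | add p q hp hq =>
      obtain ⟨k, hk⟩ := hp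
      obtain ⟨l, hl⟩ := hq
      refine ⟨k + l, ?_⟩
      have hrr : IsIntegral (MvPolynomial (Fin e) (MvPolynomial (Fin n) A)) (C r : MvPolynomial (Fin n) D) := by
        obtain ⟨j, hj⟩ := hall r
        refine IsIntegral.of_pow (n := j + 1) (Nat.succ_pos j) ?_
        rw [← C_pow, pow_succ]
        exact hbase _ hj
      rw [mul_add, pow_add]
      refine IsIntegral.add ?_ ?_
      · rw [mul_comm (_ ^ k), mul_assoc]; exact (hrr.pow l).mul hk
      · rw [mul_assoc]; exact (hrr.pow k).mul hl
    | mul_X p i hp =>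
      obtain ⟨k, hk⟩ := hp
      refine ⟨k, ?_⟩
      rw [← mul_assoc]
      refine hk.mul ?_
      rw [← map_X (algebraMap A D) i, ← hC]
      exact isIntegral_algebraMap
  letI : Algebra (MvPolynomial (Fin e) (MvPolynomial (Fin n) A)) (MvPolynomial (Fin e) (MvPolynomial (Fin n) A')) :=
    (MvPolynomial.map (MvPolynomial.map (algebraMap A A'))).toAlgebra
  haveI := isIntegrallyClosed_iterated A' n e
  haveI : FaithfulSMul (MvPolynomial (Fin e) (MvPolynomial (Fin n) A)) (MvPolynomial (Fin e) (MvPolynomial (Fin n) A')) :=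
    (faithfulSMul_iff_algebraMap_injective _ _).mpr
      (MvPolynomial.map_injective _ (MvPolynomial.map_injective _ (FaithfulSMul.algebraMap_injective A A')))
  haveI : Algebra.IsIntegral (MvPolynomial (Fin e) (MvPolynomial (Fin n) A)) (MvPolynomial (Fin e) (MvPolynomial (Fin n) A')) :=
    ⟨isIntegral_map _ (isIntegral_map _ (fun z => Algebra.IsIntegral.isIntegral z) _) _⟩
  have hn := image_basicOpen_mem_nhds_of_injective (R := MvPolynomial (Fin e) (MvPolynomial (Fin n) A))
    (R' := MvPolynomial (Fin e) (MvPolynomial (Fin n) A')) (hinj n e) Q hG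
  have hcomm : ∀ z : PrimeSpectrum (MvPolynomial (Fin n) D),
      PrimeSpectrum.comap (C : MvPolynomial (Fin n) A →+* MvPolynomial (Fin e) (MvPolynomial (Fin n) A))
        (PrimeSpectrum.comap (algebraMap (MvPolynomial (Fin e) (MvPolynomial (Fin n) A)) (MvPolynomial (Fin n) D)) z) =
      PrimeSpectrum.comap (MvPolynomial.map (σ := Fin n) (algebraMap A D)) z := fun z => by
    refine PrimeSpectrum.ext ?_
    show (z.asIdeal.comap _).comap C = z.asIdeal.comap _
    rw [Ideal.comap_comap]
    exact congrArg (fun f => Ideal.comap f z.asIdeal) (RingHom.ext hC)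
  rw [← hcomm]
  refine Filter.mem_of_superset ((MvPolynomial.isOpenMap_comap_C).image_mem_nhds hn) ?_
  rintro _ ⟨_, ⟨z, hz, rfl⟩, rfl⟩
  exact ⟨z, hz, (hcomm z).symm⟩

/-- If every prime has parameters, the map stays open after adjoining finitely many variables. -/
theorem isOpenMap_comap_map {A A' : Type u} [CommRing A] [IsDomain A] [CommRing A'] [IsDomain A']
    [IsIntegrallyClosed A'] [Algebra A A'] [FaithfulSMul A A'] [Algebra.IsIntegral A A']
    (hinj : ∀ n e : ℕ, Function.Injective (PrimeSpectrum.comap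
      (MvPolynomial.map (σ := Fin e) (MvPolynomial.map (σ := Fin n) (algebraMap A A')))))
    {B : Type u} [CommRing B] [Algebra A B] [Algebra.FiniteType A B]
    (h : ∀ q : PrimeSpectrum B, HasParams A q) (n : ℕ) :
    IsOpenMap (PrimeSpectrum.comap (MvPolynomial.map (σ := Fin n) (algebraMap A B))) := by
  classical
  refine isTopologicalBasis_basic_opens.isOpenMap_iff.mpr ?_
  rintro _ ⟨G, rfl⟩
  refine isOpen_iff_mem_nhds.mpr ?_
  rintro _ ⟨Q, hQ, rfl⟩
  obtain ⟨m, hmq, e, a, ha, r, hr, hall⟩ := h (PrimeSpectrum.comap C Q)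
  have hπs : Function.Surjective (MvPolynomial.map (σ := Fin n) (Ideal.Quotient.mk m.asIdeal)) :=
    MvPolynomial.map_surjective _ Ideal.Quotient.mk_surjective
  have hker : RingHom.ker (MvPolynomial.map (σ := Fin n) (Ideal.Quotient.mk m.asIdeal)) ≤ Q.asIdeal := by
    rw [MvPolynomial.ker_map, Ideal.mk_ker, Ideal.map_le_iff_le_comap]
    exact hmq
  haveI : (Q.asIdeal.map (MvPolynomial.map (σ := Fin n) (Ideal.Quotient.mk m.asIdeal))).IsPrime :=
    Ideal.map_isPrime_of_surjective hπs hker
  have hQb : (Q.asIdeal.map (MvPolynomial.map (σ := Fin n) (Ideal.Quotient.mk m.asIdeal))).comap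
      (MvPolynomial.map (Ideal.Quotient.mk m.asIdeal)) = Q.asIdeal := by
    rw [Ideal.comap_map_of_surjective _ hπs, ← RingHom.ker_eq_comap_bot, sup_eq_left.mpr hker]
  have hn := image_map_mem_nhds hinj ha hall
    ⟨Q.asIdeal.map (MvPolynomial.map (σ := Fin n) (Ideal.Quotient.mk m.asIdeal)), inferInstance⟩
    (fun h' => hr (show C r ∈ Q.asIdeal by
      rw [← hQb, Ideal.mem_comap, map_C]; exact h'))
    (G := MvPolynomial.map (Ideal.Quotient.mk m.asIdeal) G) (fun h' => hQ (show G ∈ Q.asIdeal from hQb ▸ h'))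
  have hcomm : ∀ z : PrimeSpectrum (MvPolynomial (Fin n) (B ⧸ m.asIdeal)),
      PrimeSpectrum.comap (MvPolynomial.map (σ := Fin n) (algebraMap A (B ⧸ m.asIdeal))) z =
      PrimeSpectrum.comap (MvPolynomial.map (σ := Fin n) (algebraMap A B))
        (PrimeSpectrum.comap (MvPolynomial.map (Ideal.Quotient.mk m.asIdeal)) z) := fun z => by
    refine PrimeSpectrum.ext ?_
    show z.asIdeal.comap _ = (z.asIdeal.comap _).comap _
    rw [Ideal.comap_comap]
    exact congrArg (fun f => Ideal.comap f z.asIdeal)
      (RingHom.ext fun w => by rw [RingHom.comp_apply, MvPolynomial.map_map]; rfl)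
  have h1 : PrimeSpectrum.comap (MvPolynomial.map (Ideal.Quotient.mk m.asIdeal))
      ⟨Q.asIdeal.map (MvPolynomial.map (σ := Fin n) (Ideal.Quotient.mk m.asIdeal)), inferInstance⟩ = Q :=
    PrimeSpectrum.ext hQb
  rw [← h1, ← hcomm]
  refine Filter.mem_of_superset hn ?_
  rintro _ ⟨z, hz, rfl⟩
  exact ⟨PrimeSpectrum.comap (MvPolynomial.map (Ideal.Quotient.mk m.asIdeal)) z, hz, (hcomm z).symm⟩

end Groth.Agent.Chevalley
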