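import Groth.Agent.Chevalley.Data
import Groth.Agent.S4567
import Groth.Agent.EtStruct.UnibranchGlobal
import Groth.Agent.Wt.UnivOpenAn

/-! # Chevalley's criterion for universal openness -/

set_option autoImplicit false
set_option linter.style.haveILetI false

universe u

open CategoryTheory AlgebraicGeometry Limits Topology

namespace Groth.Agent.Chevalley

attribute [local instance] MvPolynomial.algebraMvPolynomial in
theorem universallyInjective_map {A A' : Type u} [CommRing A] [CommRing A'] (φ : A →+* A')
    (h : UniversallyInjective (Spec.map (CommRingCat.ofHom φ))) (n : ℕ) :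
    UniversallyInjective (Spec.map (CommRingCat.ofHom (MvPolynomial.map (σ := Fin n) φ))) := by
  algebraize [φ]
  exact MorphismProperty.of_isPullback (P := @UniversallyInjective) (isPullback_SpecMap_of_isPushout
    (CommRingCat.ofHom (algebraMap A A')) (CommRingCat.ofHom (algebraMap A (MvPolynomial (Fin n) A)))
    (CommRingCat.ofHom (algebraMap A' (MvPolynomial (Fin n) A')))
    (CommRingCat.ofHom (algebraMap (MvPolynomial (Fin n) A) (MvPolynomial (Fin n) A')))
    (CommRingCat.isPushout_of_isPushout A A' (MvPolynomial (Fin n) A) (MvPolynomial (Fin n) A'))) h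

/-- Chevalley's criterion for algebras of finite type over a geometrically unibranch domain. -/
theorem universallyOpen_algebraMap {A B : Type u} [CommRing A] [IsDomain A] [CommRing B] [Algebra A B]
    [Algebra.FiniteType A B]
    (hA : ∀ (p : Ideal A) [p.IsPrime], CAlg2.IsGeomUnibranch (Localization.AtPrime p))
    (h : ∀ q : PrimeSpectrum B, HasParams A q) :
    UniversallyOpen (Spec.map (CommRingCat.ofHom (algebraMap A B))) := by
  let A' := integralClosure A (FractionRing A)
  haveI : IsIntegrallyClosed A' := integralClosure.isIntegrallyClosedOfFiniteExtension (FractionRing A)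
  haveI : FaithfulSMul A A' := (faithfulSMul_iff_algebraMap_injective A A').mpr fun a b hab =>
    IsFractionRing.injective A (FractionRing A) (congrArg Subtype.val hab)
  have hUI := S4567.universallyInjective_of_geomUnibranch A hA
  have hinj : ∀ n e : ℕ, Function.Injective (PrimeSpectrum.comap
      (MvPolynomial.map (σ := Fin e) (MvPolynomial.map (σ := Fin n) (algebraMap A A')))) := fun n e => by
    have hh := universallyInjective_map _ (universallyInjective_map _ hUI n) e
    exact @Scheme.Hom.injective _ _ _ hh
  refine (Wt.UnivOpenAn.universallyOpen_iff _).mpr fun n => ?_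
  have hopen := isOpenMap_comap_map hinj h n
  rw [AffineSpace.map_SpecMap]
  simp only [Scheme.Hom.comp_base, TopCat.coe_comp]
  refine ((AffineSpace.SpecIso _ _).inv.homeomorph.isOpenMap.comp ?_).comp
    (AffineSpace.SpecIso _ _).hom.homeomorph.isOpenMap
  let eA := (MvPolynomial.renameEquiv A (Equiv.ulift.{u} : ULift.{u} (Fin n) ≃ Fin n)).toRingEquiv
  let eB := (MvPolynomial.renameEquiv B (Equiv.ulift.{u} : ULift.{u} (Fin n) ≃ Fin n)).toRingEquiv
  have hcomp : ∀ z, PrimeSpectrum.comap (MvPolynomial.map (σ := ULift.{u} (Fin n)) (algebraMap A B)) z =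
      PrimeSpectrum.comap eA.toRingHom (PrimeSpectrum.comap (MvPolynomial.map (σ := Fin n) (algebraMap A B))
        (PrimeSpectrum.comap eB.symm.toRingHom z)) := fun z => by
    refine PrimeSpectrum.ext ?_
    show Ideal.comap _ z.asIdeal = ((z.asIdeal.comap _).comap _).comap _
    rw [Ideal.comap_comap, Ideal.comap_comap]
    refine congrArg (fun φ => Ideal.comap φ z.asIdeal) ?_
    refine MvPolynomial.ringHom_ext (fun a => ?_) fun i => ?_
    · simp [eA, eB]
    · simp [eA, eB]
  show IsOpenMap (PrimeSpectrum.comap (MvPolynomial.map (σ := ULift.{u} (Fin n)) (algebraMap A B)))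
  rw [funext hcomp]
  exact (PrimeSpectrum.homeomorphOfRingEquiv eA.symm).isOpenMap.comp
    (hopen.comp (PrimeSpectrum.homeomorphOfRingEquiv eB).isOpenMap)

/-- Chevalley's criterion between affine schemes. -/
theorem universallyOpen_SpecMap {A B : CommRingCat.{u}} [IsDomain A] (φ : A ⟶ B)
    [LocallyOfFiniteType (Spec.map φ)] (hA : ∀ y, CAlg2.IsGeomUnibranch ((Spec A).presheaf.stalk y))
    (h : ∀ q, Data (Spec.map φ) q) : UniversallyOpen (Spec.map φ) := by
  algebraize [φ.hom]
  haveI : Algebra.FiniteType A B := (HasRingHomProperty.Spec_iff (P := @LocallyOfFiniteType)).mp ‹_›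
  refine universallyOpen_algebraMap (A := A) (B := B) (fun p hp => ?_) fun q => hasParams_of_data (h q)
  let y : Spec A := ⟨p, hp⟩
  let e : (Spec A).presheaf.stalk y ≃+* Localization.AtPrime p := (Spec.stalkIso A y).commRingCatIsoToRingEquiv
  haveI : IsDomain ((Spec A).presheaf.stalk y) := e.toMulEquiv.isDomain_iff.mpr inferInstance
  exact EtStruct.isGeomUnibranch_of_ringEquiv e (hA y)

/-- Universal openness can be tested after base change along a surjective closed immersion. -/
theorem universallyOpen_of_surjective_closedImmersion {X Y Y' : Scheme.{u}} (f : X ⟶ Y) (ι : Y' ⟶ Y)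
    [IsClosedImmersion ι] [Surjective ι] (h : UniversallyOpen (pullback.snd f ι)) : UniversallyOpen f := by
  refine ⟨MorphismProperty.universally_mk' _ _ fun {S} g _ => ?_⟩
  show IsOpenMap ⇑(pullback.fst g f)
  intro W hW
  have hp : IsPullback (pullback.snd g f) (pullback.fst g f) f g := (IsPullback.of_hasPullback g f).flip
  let ι' := pullback.fst g ι
  haveI : IsClosedImmersion ι' := MorphismProperty.of_isPullback (IsPullback.of_hasPullback g ι).flip inferInstance
  haveI : Surjective ι' := MorphismProperty.of_isPullback (IsPullback.of_hasPullback g ι).flip inferInstance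
  let P := pullback (pullback.snd g ι) (pullback.snd f ι)
  haveI : UniversallyOpen (pullback.fst (pullback.snd g ι) (pullback.snd f ι)) :=
    MorphismProperty.of_isPullback (IsPullback.of_hasPullback (pullback.snd g ι) (pullback.snd f ι)).flip h
  let b : P ⟶ pullback g f := pullback.lift (pullback.fst _ _ ≫ ι') (pullback.snd _ _ ≫ pullback.fst f ι) (by
    rw [Category.assoc, pullback.condition, Category.assoc, pullback.condition (f := f), pullback.condition_assoc])
  have hb : IsPullback b (pullback.fst (pullback.snd g ι) (pullback.snd f ι)) (pullback.fst g f) ι' := by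
    refine IsPullback.of_right ?_ (pullback.lift_fst _ _ _) hp
    rw [pullback.lift_snd]
    have h1 : IsPullback (pullback.fst f ι) (pullback.snd f ι) f ι := IsPullback.of_hasPullback f ι
    have h2 := ((IsPullback.of_hasPullback (pullback.snd g ι) (pullback.snd f ι)).flip).paste_horiz h1
    rwa [← pullback.condition] at h2
  have himg := Scheme.image_preimage_eq_of_isPullback hb W
  have hopen : IsOpen (⇑ι' ⁻¹' (⇑(pullback.fst g f) '' W)) := by
    rw [← himg]
    exact (pullback.fst (pullback.snd g ι) (pullback.snd f ι)).isOpenMap _ (hW.preimage b.continuous)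
  exact (isHomeomorph_iff_isEmbedding_surjective.mpr ⟨ι'.isEmbedding, ι'.surjective⟩).homeomorph.isOpen_preimage.mp hopen

theorem isGeomUnibranch_comp_equiv {A A₀ B : Type u} [CommRing A] [IsLocalRing A] [CommRing A₀] [IsLocalRing A₀]
    [CommRing B] [IsLocalRing B] (φ : A →+* B) (hφ : Function.Surjective φ) (hker : RingHom.ker φ = nilradical A)
    (e : A₀ ≃+* A) (h : CAlg2.IsGeomUnibranch A₀) : CAlg2.IsGeomUnibranch B := by
  refine (EtStruct.isGeomUnibranch_of_surjective (φ.comp e.toRingHom) (hφ.comp e.surjective) ?_ h).2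
  ext a
  rw [RingHom.mem_ker, RingHom.comp_apply, ← RingHom.mem_ker, hker, mem_nilradical, mem_nilradical]
  exact IsNilpotent.map_iff e.injective

/-- Chevalley's criterion over an irreducible affine base. -/
theorem universallyOpen_of_affine {X Y Y₀ : Scheme.{u}} [IsAffine Y] [IrreducibleSpace Y] (j : Y ⟶ Y₀)
    [IsOpenImmersion j] (hY : ∀ y : Y₀, CAlg2.IsGeomUnibranch (Y₀.presheaf.stalk y)) (f : X ⟶ Y) [LocallyOfFiniteType f]
    (h : ∀ x, Data f x) : UniversallyOpen f := by
  let I := Scheme.IdealSheafData.vanishingIdeal (⊤ : TopologicalSpace.Closeds Y)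
  let ι := I.subschemeι
  have hsurj : Function.Surjective ι := Set.range_eq_univ.mp
    (RedSub.range_vanishingIdeal_subschemeι (⊤ : TopologicalSpace.Closeds Y))
  haveI : Surjective ι := ⟨hsurj⟩
  have hb : IsHomeomorph ι := isHomeomorph_iff_isEmbedding_surjective.mpr ⟨ι.isEmbedding, hsurj⟩
  have ha : IsHomeomorph (pullback.fst f ι) :=
    isHomeomorph_iff_isEmbedding_surjective.mpr ⟨(pullback.fst f ι).isEmbedding, (pullback.fst f ι).surjective⟩
  haveI : IrreducibleSpace I.subscheme := by
    refine (irreducibleSpace_def _).mpr ?_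
    have h : IsIrreducible (hb.homeomorph.symm '' (Set.univ : Set Y)) :=
      (IrreducibleSpace.isIrreducible_univ _).image _ hb.homeomorph.symm.continuous.continuousOn
    rwa [Set.image_univ, EquivLike.range_eq_univ] at h
  haveI := isIntegral_of_irreducibleSpace_of_isReduced I.subscheme
  haveI : IsAffine I.subscheme := isAffine_of_isAffineHom ι
  have hI : ∀ y, CAlg2.IsGeomUnibranch (I.subscheme.presheaf.stalk y) := fun y =>
    isGeomUnibranch_comp_equiv (ι.stalkMap y).hom (ι.stalkMap_surjective y)
      (EtStruct.ker_stalkMap_eq_nilradical ι hsurj y) (asIso (j.stalkMap (ι y))).commRingCatIsoToRingEquiv (hY _)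
  refine universallyOpen_of_surjective_closedImmersion f ι ?_
  have hdata : ∀ z, Data (pullback.snd f ι) z := fun z =>
    (h (pullback.fst f ι z)).restrict ha.isOpenEmbedding hb.isOpenEmbedding fun w =>
      congr($(pullback.condition (f := f) (g := ι)) w)
  refine (IsZariskiLocalAtSource.iff_of_openCover (P := @UniversallyOpen) (pullback f ι).affineCover).mpr fun i => ?_
  let S := I.subscheme
  let g := (pullback f ι).affineCover.f i ≫ pullback.snd f ι ≫ S.isoSpec.hom
  obtain ⟨φ, hφ⟩ := Spec.map_surjective g
  haveI : LocallyOfFiniteType (Spec.map φ) := hφ ▸ inferInstanceAs (LocallyOfFiniteType g)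
  haveI : IsDomain Γ(S, ⊤) := inferInstance
  have hUO : UniversallyOpen (Spec.map φ) := by
    refine universallyOpen_SpecMap φ (fun y => ?_) fun q => ?_
    · obtain ⟨z, rfl⟩ : y ∈ Set.range S.isoSpec.hom := ⟨_, S.isoSpec.hom.homeomorph.apply_symm_apply y⟩
      haveI : IsDomain (S.presheaf.stalk z) := inferInstance
      haveI : IsDomain ((Spec Γ(S, ⊤)).presheaf.stalk (S.isoSpec.hom z)) := inferInstance
      exact EtStruct.isGeomUnibranch_of_ringEquiv
        (asIso (S.isoSpec.hom.stalkMap z)).commRingCatIsoToRingEquiv.symm (hI z)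
    · refine (hdata ((pullback f ι).affineCover.f i q)).restrict ((pullback f ι).affineCover.f i).isOpenEmbedding
        S.isoSpec.inv.isOpenEmbedding fun w => ?_
      have key : (pullback f ι).affineCover.f i ≫ pullback.snd f ι = Spec.map φ ≫ S.isoSpec.inv := by
        rw [hφ]
        show _ = (_ ≫ _ ≫ _) ≫ _
        rw [Category.assoc, Category.assoc, Iso.hom_inv_id, Category.comp_id]
      exact congr($(key) w)
  rw [← MorphismProperty.cancel_right_of_respectsIso @UniversallyOpen _ S.isoSpec.hom, Category.assoc]
  show UniversallyOpen g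
  rw [← hφ]
  exact hUO

/-- Chevalley's criterion for universal openness. -/
theorem universallyOpen_of_data {X Y : Scheme.{u}} (hY : ∀ y : Y, CAlg2.IsGeomUnibranch (Y.presheaf.stalk y))
    (hloc : ∀ y : Y, ∃ N : Set Y, IsOpen N ∧ y ∈ N ∧ IsPreirreducible N)
    (f : X ⟶ Y) [LocallyOfFiniteType f] (h : ∀ x, Data f x) : UniversallyOpen f := by
  have hc : ∀ y : Y, ∃ V : Y.Opens, y ∈ V ∧ IsAffineOpen V ∧ IsIrreducible (V : Set Y) := fun y => by
    obtain ⟨N, hN, hyN, hNi⟩ := hloc y
    obtain ⟨_, ⟨V, hV, rfl⟩, hyV, hVN⟩ := Y.isBasis_affineOpens.exists_subset_of_mem_open hyN hN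
    exact ⟨V, hyV, hV, ⟨y, hyV⟩, hNi.open_subset V.2 hVN⟩
  choose V hyV hV hVi using hc
  refine IsZariskiLocalAtTarget.of_iSup_eq_top (P := @UniversallyOpen) V
    (eq_top_iff.mpr fun y _ => TopologicalSpace.Opens.mem_iSup.mpr ⟨y, hyV y⟩) fun y => ?_
  haveI : IsAffine (V y : Scheme.{u}) := hV y
  haveI : IrreducibleSpace (V y : Scheme.{u}) := Subtype.irreducibleSpace (hVi y)
  exact universallyOpen_of_affine (V y).ι hY _ fun x => (h _).restrict (f ⁻¹ᵁ V y).ι.isOpenEmbedding
    (V y).ι.isOpenEmbedding fun w => congr($(morphismRestrict_ι f (V y)) w).symm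

end Groth.Agent.Chevalley
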