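import Groth.Agent.Chevalley.Normal
import Groth.Agent.QSect.Core

/-! # Openness of quasi-finite algebras over domains with radicial normalisation -/

set_option autoImplicit false

universe u

open scoped TensorProduct
open PrimeSpectrum

namespace Groth.Agent.Chevalley

/-- Over a domain with a normal integral extension inducing an injection on spectra, quasi-finite
points of domains of finite type are open points. -/
theorem image_basicOpen_mem_nhds_of_injective {R R' : Type u} [CommRing R] [IsDomain R] [CommRing R']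
    [IsDomain R'] [IsIntegrallyClosed R'] [Algebra R R'] [FaithfulSMul R R'] [Algebra.IsIntegral R R']
    (hinj : Function.Injective (PrimeSpectrum.comap (algebraMap R R')))
    {D : Type u} [CommRing D] [IsDomain D] [Algebra R D] [FaithfulSMul R D] [Algebra.FiniteType R D]
    (q : PrimeSpectrum D) [Algebra.QuasiFiniteAt R q.asIdeal] {g : D} (hg : g ∉ q.asIdeal) :
    PrimeSpectrum.comap (algebraMap R D) '' (PrimeSpectrum.basicOpen g : Set (PrimeSpectrum D)) ∈
      nhds (PrimeSpectrum.comap (algebraMap R D) q) := by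
  let Ω := AlgebraicClosure (FractionRing D)
  haveI : Nontrivial R' := inferInstance
  haveI : Algebra.IsAlgebraic R R' := Algebra.IsIntegral.isAlgebraic
  have hDΩ : Function.Injective (algebraMap D Ω) := by
    rw [IsScalarTower.algebraMap_eq D (FractionRing D) Ω]
    exact (algebraMap (FractionRing D) Ω).injective.comp (IsFractionRing.injective D _)
  haveI : FaithfulSMul R Ω := (faithfulSMul_iff_algebraMap_injective R Ω).mpr (by
    rw [IsScalarTower.algebraMap_eq R D Ω]
    exact hDΩ.comp (FaithfulSMul.algebraMap_injective R D))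
  let ψ : R' →ₐ[R] Ω := IsAlgClosed.lift
  let Φ : R' ⊗[R] D →ₐ[R] Ω :=
    Algebra.TensorProduct.lift ψ (IsScalarTower.toAlgHom R D Ω) fun _ _ => .all _ _
  let m' := RingHom.ker Φ.toRingHom
  haveI : m'.IsPrime := RingHom.ker_isPrime _
  let ir : D →+* R' ⊗[R] D := (Algebra.TensorProduct.includeRight : D →ₐ[R] R' ⊗[R] D).toRingHom
  have hm'D : m'.comap ir = ⊥ := by
    refine eq_bot_iff.mpr fun d hd => Ideal.mem_bot.mpr (hDΩ ?_)
    have h0 : Φ (1 ⊗ₜ d) = 0 := hd
    simpa [Φ] using h0
  have hir : ir.IsIntegral := by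
    intro x
    induction x using TensorProduct.induction_on with
    | zero => exact ⟨Polynomial.X, Polynomial.monic_X, by simp⟩
    | tmul a d =>
      letI := ir.toAlgebra
      haveI : IsScalarTower R D (R' ⊗[R] D) := IsScalarTower.of_algebraMap_eq fun z =>
        ((Algebra.TensorProduct.includeRight : D →ₐ[R] R' ⊗[R] D).commutes z).symm
      have h1 : IsIntegral D (a ⊗ₜ[R] (1 : D)) :=
        ((Algebra.IsIntegral.isIntegral (R := R) a).map
          (Algebra.TensorProduct.includeLeft : R' →ₐ[R] R' ⊗[R] D)).tower_top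
      have h2 : IsIntegral D ((1 : R') ⊗ₜ[R] d) := isIntegral_algebraMap (R := D) (A := R' ⊗[R] D) (x := d)
      have := h1.mul h2
      rwa [Algebra.TensorProduct.tmul_mul_tmul, mul_one, one_mul] at this
    | add x y hx hy =>
      letI := ir.toAlgebra
      exact IsIntegral.add (R := D) hx hy
  obtain ⟨q', hq'p, hmq', hq'⟩ : ∃ q' : Ideal (R' ⊗[R] D), q'.IsPrime ∧ m' ≤ q' ∧ q'.comap ir = q.asIdeal := by
    letI := ir.toAlgebra
    haveI : Algebra.IsIntegral D (R' ⊗[R] D) := ⟨hir⟩
    obtain ⟨Q, hle, hQ, hQq⟩ := Ideal.exists_ideal_over_prime_of_isIntegral (S := R' ⊗[R] D) q.asIdeal m'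
      (show m'.comap ir ≤ _ by rw [hm'D]; exact bot_le)
    exact ⟨Q, hQ, hle, hQq⟩
  haveI := hq'p
  haveI : Algebra.QuasiFiniteAt R' q' := Algebra.QuasiFiniteAt.baseChange (p := q.asIdeal) q' hq'.symm
  let D' := (R' ⊗[R] D) ⧸ m'
  let mk : R' ⊗[R] D →ₐ[R'] D' := Ideal.Quotient.mkₐ R' m'
  haveI : (q'.map (Ideal.Quotient.mk m')).IsPrime :=
    Ideal.map_isPrime_of_surjective Ideal.Quotient.mk_surjective (by rwa [Ideal.mk_ker])
  let qbar : PrimeSpectrum D' := ⟨q'.map (Ideal.Quotient.mk m'), inferInstance⟩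
  have hqbar : q' = qbar.asIdeal.comap mk.toRingHom := by
    show q' = (q'.map (Ideal.Quotient.mk m')).comap (Ideal.Quotient.mk m')
    rw [Ideal.comap_map_of_surjective _ Ideal.Quotient.mk_surjective, ← RingHom.ker_eq_comap_bot, Ideal.mk_ker,
      sup_eq_left.mpr hmq']
  haveI : Algebra.QuasiFiniteAt R' qbar.asIdeal := Algebra.QuasiFiniteAt.of_surjectiveOnStalks q' mk
    (RingHom.surjectiveOnStalks_of_surjective Ideal.Quotient.mk_surjective) _ hqbar
  haveI : FaithfulSMul R' D' := (faithfulSMul_iff_algebraMap_injective R' D').mpr <| by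
    refine (injective_iff_map_eq_zero _).mpr fun a ha => ?_
    have h0 : Φ (a ⊗ₜ (1 : D)) = 0 := Ideal.Quotient.eq_zero_iff_mem.mp ha
    have h1 : ψ a = 0 := by simpa [Φ] using h0
    by_contra ha0
    have hne : (Ideal.span {a}).comap (algebraMap R R') ≠ ⊥ :=
      Ideal.comap_ne_bot_of_integral_mem ha0 (Ideal.mem_span_singleton_self a) (Algebra.IsIntegral.isIntegral a)
    obtain ⟨b, hb, hb0⟩ := Submodule.exists_mem_ne_zero_of_ne_bot hne
    obtain ⟨c, hc⟩ := Ideal.mem_span_singleton.mp (Ideal.mem_comap.mp hb)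
    refine hb0 (FaithfulSMul.algebraMap_injective R Ω ?_)
    rw [map_zero, ← ψ.commutes, hc, map_mul, h1, zero_mul]
  haveI : Algebra.FiniteType R' D' := Algebra.FiniteType.of_surjective mk Ideal.Quotient.mk_surjective
  let g' : D' := mk (1 ⊗ₜ g)
  have hg' : g' ∉ qbar.asIdeal := fun h => hg (by
    rw [← hq']
    show (1 : R') ⊗ₜ[R] g ∈ q'
    rw [hqbar]
    exact h)
  have hnhd := image_basicOpen_mem_nhds (R := R') qbar hg'
  let φ := PrimeSpectrum.comap (algebraMap R R')
  have hφc : IsClosedMap φ := PrimeSpectrum.isClosedMap_comap_of_isIntegral _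
    (fun x => Algebra.IsIntegral.isIntegral x)
  have hφs : Function.Surjective φ := fun p => by
    obtain ⟨Q, -, hQ, hQp⟩ := Ideal.exists_ideal_over_prime_of_isIntegral (S := R') p.asIdeal ⊥
      (by rw [← RingHom.ker_eq_comap_bot,
        (RingHom.injective_iff_ker_eq_bot _).mp (FaithfulSMul.algebraMap_injective R R')]; exact bot_le)
    exact ⟨⟨Q, hQ⟩, PrimeSpectrum.ext hQp⟩
  let e := (Equiv.ofBijective φ ⟨hinj, hφs⟩).toHomeomorphOfContinuousClosed (PrimeSpectrum.continuous_comap _) hφc
  have hcomm : ∀ z : PrimeSpectrum D', PrimeSpectrum.comap (algebraMap R D)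
      (PrimeSpectrum.comap ir (PrimeSpectrum.comap mk.toRingHom z)) =
      φ (PrimeSpectrum.comap (algebraMap R' D') z) := fun z => by
    refine PrimeSpectrum.ext ?_
    show ((z.asIdeal.comap mk.toRingHom).comap ir).comap (algebraMap R D) =
      (z.asIdeal.comap (algebraMap R' D')).comap (algebraMap R R')
    simp only [Ideal.comap_comap]
    congr 1
    ext a
    show mk ((1 : R') ⊗ₜ[R] algebraMap R D a) = algebraMap R' D' (algebraMap R R' a)
    rw [← mk.commutes]
    congr 1
    exact (Algebra.TensorProduct.includeRight : D →ₐ[R] R' ⊗[R] D).commutes a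
  have h1 : φ (PrimeSpectrum.comap (algebraMap R' D') qbar) = PrimeSpectrum.comap (algebraMap R D) q := by
    rw [← hcomm]
    congr 1
    exact PrimeSpectrum.ext (by rw [← hq', hqbar]; rfl)
  rw [← h1]
  refine Filter.mem_of_superset (e.isOpenMap.image_mem_nhds hnhd) ?_
  rintro _ ⟨_, ⟨z, hz, rfl⟩, rfl⟩
  exact ⟨PrimeSpectrum.comap ir (PrimeSpectrum.comap mk.toRingHom z), hz, hcomm z⟩

end Groth.Agent.Chevalley
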